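import Mathlib
import Cfsg.Agent.Lib.Suzuki.Field

/-!
Identities between products of endomorphisms of a finite field of characteristic two.
-/

set_option autoImplicit false

namespace CfsgLib.SzFpf

open CfsgLib.Suzuki

variable {F : Type*} [Field F] [CharP F 2]

theorem endo_coeff_zero {k : ℕ} (e : Fin k → F →+* F) (he : Function.Injective e) (c : Fin k → F)
    (h : ∀ x, ∑ i, c i * e i x = 0) (i : Fin k) : c i = 0 := by
  have hli := (linearIndependent_monoidHom F F).comp (fun i => (e i).toMonoidHom) (fun a b hab => he (RingHom.ext fun x => by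
    simpa using DFunLike.congr_fun hab x))
  refine Fintype.linearIndependent_iff.1 hli c ?_ i
  funext x
  simpa using h x

/-- `γ = α β` forces `α = β` and `γ = α²`. -/
theorem eq_of_eq_mul {α β γ : F →+* F} (h : ∀ x, γ x = α x * β x) :
    α = β ∧ ∀ x, γ x = α x * α x := by
  have e : α = β := RingHom.ext fun x => by
    have h1 := h (x + 1)
    rw [map_add, map_add, map_add, map_one, map_one, map_one, h x] at h1
    exact CharTwo.add_eq_zero.1 (by linear_combination -h1)
  exact ⟨e, fun x => by rw [h x, e]⟩

/-- `α β = γ δ` forces equality of the pairs. -/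
theorem pair_eq {α β γ δ : F →+* F} (h : ∀ x, α x * β x = γ x * δ x) :
    (α = γ ∧ β = δ) ∨ (α = δ ∧ β = γ) := by
  have hsum : ∀ x, α x + β x = γ x + δ x := fun x => by
    have h1 := h (x + 1)
    rw [map_add, map_add, map_add, map_add, map_one, map_one, map_one, map_one] at h1
    linear_combination h1 - h x
  have hpt : ∀ x, α x = γ x ∨ α x = δ x := fun x => by
    have h1 : (α x - γ x) * (α x - δ x) = 0 := by linear_combination -h x + α x * hsum x
    rcases mul_eq_zero.1 h1 with h2 | h2
    · exact Or.inl (sub_eq_zero.1 h2)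
    · exact Or.inr (sub_eq_zero.1 h2)
  by_cases hg : α = γ
  · exact Or.inl ⟨hg, RingHom.ext fun x => by linear_combination hsum x - DFunLike.congr_fun hg x⟩
  · have hd : α = δ := by
      obtain ⟨x, hx⟩ : ∃ x, α x ≠ γ x := by
        by_contra hc; push Not at hc; exact hg (RingHom.ext hc)
      refine RingHom.ext fun y => ?_
      rcases hpt y with hy | hy
      · have hxd := (hpt x).resolve_left hx
        rcases hpt (x + y) with hs | hs
        · rw [map_add, map_add, hy] at hs; exact absurd (add_right_cancel hs) hx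
        · rw [map_add, map_add, hxd] at hs; exact add_left_cancel hs
      · exact hy
    exact Or.inr ⟨hd, RingHom.ext fun x => by linear_combination hsum x - DFunLike.congr_fun hd x⟩

/-- `δ = α β γ` forces two equal factors whose square is the third, `δ` being the square of the
third. -/
theorem triple_eq {α β γ δ : F →+* F} (h : ∀ x, α x * β x * γ x = δ x) :
    (α = β ∧ (∀ x, γ x = α x * α x) ∧ ∀ x, δ x = γ x * γ x) ∨
    (α = γ ∧ (∀ x, β x = α x * α x) ∧ ∀ x, δ x = β x * β x) ∨
    (β = γ ∧ (∀ x, α x = β x * β x) ∧ ∀ x, δ x = α x * α x) := by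
  have fin : ∀ a c : F →+* F, (∀ x, a x * a x * c x = δ x) →
      (∀ x, c x = a x * a x) ∧ ∀ x, δ x = c x * c x := by
    intro a c hac
    have := eq_of_eq_mul (α := (frobenius F 2).comp a) (β := c) (γ := δ) (fun x => by
      rw [RingHom.comp_apply, frobenius_def, ← hac x, sq])
    have hc : ∀ x, c x = a x * a x := fun x => by
      rw [← this.1, RingHom.comp_apply, frobenius_def, sq]
    exact ⟨hc, fun x => by rw [← hac x, hc x]⟩
  have hs : ∀ x, α x + β x + γ x + (α x * β x + α x * γ x + β x * γ x) = 0 := fun x => by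
    have h1 := h (x + 1)
    rw [map_add, map_add, map_add, map_add, map_one, map_one, map_one, map_one] at h1
    linear_combination h1 - h x
  have hB : ∀ y x, (β y + γ y) * α x + (α y + γ y) * β x + (α y + β y) * γ x = 0 := fun y x => by
    have h1 := hs (x + y)
    simp only [map_add] at h1
    linear_combination h1 - hs x - hs y
  by_cases h1 : α = β
  · exact Or.inl ⟨h1, fin α γ (fun x => by rw [← h x, h1])⟩
  by_cases h2 : α = γ
  · exact Or.inr (Or.inl ⟨h2, fin α β (fun x => by rw [← h x, h2]; ring)⟩)
  by_cases h3 : β = γ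
  · exact Or.inr (Or.inr ⟨h3, fin β α (fun x => by rw [← h x, h3]; ring)⟩)
  exfalso
  apply h3
  refine RingHom.ext fun y => ?_
  have h0 := endo_coeff_zero ![α, β, γ] (by
    intro i j hij
    fin_cases i <;> fin_cases j <;> simp at hij ⊢
    all_goals first | exact absurd hij h1 | exact absurd hij.symm h1 | exact absurd hij h2 |
      exact absurd hij.symm h2 | exact absurd hij h3 | exact absurd hij.symm h3)
    ![β y + γ y, α y + γ y, α y + β y]
    (fun x => by simpa [Fin.sum_univ_three] using hB y x) 0
  exact CharTwo.add_eq_zero.1 (by simpa using h0)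

/-- An additive map that is semi-invariant for the multiplications is a multiple of an endomorphism. -/
theorem exists_endo (f : F →+ F) (hf : f 1 ≠ 0) (χ : F → F)
    (h : ∀ u : Fˣ, ∀ x, f ((u : F) * x) = χ u * f x) :
    ∃ τ : F →+* F, (∀ x, f x = f 1 * τ x) ∧ ∀ u : Fˣ, χ u = τ u := by
  have hmul : ∀ x y, f (x * y) * f 1 = f x * f y := fun x y => by
    by_cases hx : x = 0
    · simp [hx]
    · have h1 := h (Units.mk0 x hx) y
      have h2 := h (Units.mk0 x hx) 1
      rw [Units.val_mk0] at h1 h2
      rw [mul_one] at h2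
      rw [h1, h2]; ring
  refine ⟨{ toFun := fun x => f x / f 1, map_one' := div_self hf, map_mul' := fun x y => ?_,
            map_zero' := by simp, map_add' := fun x y => by rw [map_add, add_div] }, fun x => ?_, fun u => ?_⟩
  · rw [div_mul_div_comm, ← hmul, mul_div_mul_right _ _ hf]
  · show f x = f 1 * (f x / f 1)
    rw [mul_div_cancel₀ _ hf]
  · show χ u = f u / f 1
    have := h u 1
    rw [mul_one] at this
    rw [this, mul_div_cancel_right₀ _ hf]

omit [CharP F 2] in
theorem no_one {τ : F →+* F} (h : ∀ x : F, x ≠ 0 → τ x = 1) (hx : ∃ x : F, x ≠ 0 ∧ x ≠ 1) : False := by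
  obtain ⟨x, hx0, hx1⟩ := hx
  exact hx1 (τ.injective (by rw [h x hx0, map_one]))

section Theta

variable [Fintype F] {m : ℕ} (h : SzHyp F m)
include h

/-- `θ` as an endomorphism. -/
def theta : F →+* F where
  toFun := sig m
  map_one' := sig_one
  map_mul' := sig_mul
  map_zero' := sig_zero
  map_add' := h.sig_add

omit [CharP F 2] in
theorem theta_apply (x : F) : theta h x = sig m x := rfl

omit [CharP F 2] in
theorem theta_theta (x : F) : theta h (theta h x) = x * x := by
  rw [theta_apply, theta_apply, h.sig_sig, sq]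

omit [CharP F 2] in
theorem theta_ne_id : theta h ≠ RingHom.id F := by
  intro e
  obtain ⟨x, hx0, hx1⟩ := h.exists_ne_zero_one
  rcases h.sig_fixed (DFunLike.congr_fun e x : sig m x = x) with h1 | h1
  exacts [hx0 h1, hx1 h1]

omit [CharP F 2] in
theorem sq_ne_id : ¬ ∀ x : F, x * x = x := by
  intro e
  obtain ⟨x, hx0, hx1⟩ := h.exists_ne_zero_one
  exact hx1 (mul_right_cancel₀ hx0 (by rw [e x, one_mul]))

omit [CharP F 2] in
theorem theta_ne_sq : ¬ ∀ x : F, theta h x = x * x := by
  intro e
  refine sq_ne_id h fun x => ?_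
  have h1 := theta_theta h x
  rw [e x, e (x * x)] at h1
  exact h.pow_sq_inj (by linear_combination h1)

omit [CharP F 2] in
theorem pow_four_ne_id : ¬ ∀ x : F, x ^ 4 = x := by
  intro e
  refine sq_ne_id h fun x => ?_
  have hcard := FiniteField.pow_card x
  rw [h.card, pow_succ, pow_mul, pow_mul] at hcard
  have h4 : ∀ j : ℕ, x ^ (4 ^ j) = x := by
    intro j
    induction j with
    | zero => simp
    | succ j ih => rw [pow_succ, pow_mul, ih, e]
  have e4 : x ^ (2 ^ 2) ^ m = x := h4 m
  rw [e4, sq] at hcard
  exact hcard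

end Theta

end CfsgLib.SzFpf
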