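import Mathlib
import Cfsg.Agent.Lib.Suzuki.Simple
import Cfsg.Agent.Lib.SzFpf.Alg

/-!
The twisted natural representations of a Suzuki group and weight vectors for its torus.
-/

set_option autoImplicit false
set_option linter.unusedSectionVars false

namespace CfsgLib.SzFpf

open CfsgLib.Suzuki Matrix

variable {F : Type*} [Field F] [Fintype F] [DecidableEq F] [CharP F 2] {m : ℕ}

/-- The matrix of an element. -/
abbrev mat (g : Cfsg.Sz F m) : Matrix (Fin 4) (Fin 4) F :=
  ((g : SpecialLinearGroup (Fin 4) F) : Matrix (Fin 4) (Fin 4) F)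

/-- The natural representation twisted by an endomorphism of the field. -/
def nat (m : ℕ) (σ : F →+* F) : Representation F (Cfsg.Sz F m) (Fin 4 → F) where
  toFun g := Matrix.mulVecLin ((mat g).map σ)
  map_one' := by ext u; simp [mat]
  map_mul' g g' := by
    refine LinearMap.ext fun u => ?_
    show ((mat (g * g')).map σ) *ᵥ u = (mat g).map σ *ᵥ ((mat g').map σ *ᵥ u)
    rw [Matrix.mulVec_mulVec, ← Matrix.map_mul]
    rfl

theorem nat_apply (σ : F →+* F) (g : Cfsg.Sz F m) (u : Fin 4 → F) :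
    nat m σ g u = (mat g).map σ *ᵥ u := rfl

variable {E : Type*} [AddCommGroup E] [Module F E]

/-- An equivariant map from a twisted natural representation. -/
def IsNatMap (ρ : Representation F (Cfsg.Sz F m) E) (σ : F →+* F)
    (φ : (Fin 4 → F) →ₗ[F] E) : Prop :=
  ∀ g u, φ (nat m σ g u) = ρ g (φ u)

/-- The span of the images of twisted natural representations. -/
def natSpan (ρ : Representation F (Cfsg.Sz F m) E) : Submodule F E :=
  ⨆ (σ : F →+* F) (φ : (Fin 4 → F) →ₗ[F] E) (_ : IsNatMap ρ σ φ), LinearMap.range φ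

theorem range_le_natSpan {ρ : Representation F (Cfsg.Sz F m) E} {σ : F →+* F}
    {φ : (Fin 4 → F) →ₗ[F] E} (hφ : IsNatMap ρ σ φ) : LinearMap.range φ ≤ natSpan ρ :=
  le_iSup_of_le σ (le_iSup_of_le φ (le_iSup_of_le hφ le_rfl))

/-- Elements of order five act without fixed vectors. -/
def Fpf5 (ρ : Representation F (Cfsg.Sz F m) E) : Prop :=
  ∀ g, g ^ 5 = 1 → g ≠ 1 → ∀ e, ρ g e = e → e = 0

variable (h : SzHyp F m)
include h

/-- The central translations. -/
def zS (b : F) : Cfsg.Sz F m := tS h 0 b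

theorem zS_mul (b c : F) : zS h b * zS h c = zS h (b + c) := by
  unfold zS; rw [tS_mul]; simp [sig_zero]

theorem zS_zero : zS h 0 = 1 := tS_zero h

theorem zS_mul_self (b : F) : zS h b * zS h b = 1 := by rw [zS_mul, h.add_self, zS_zero]

/-- `k ↦ k ρ(k)` is an automorphism of the group of units. -/
noncomputable def unitsEquiv : Fˣ ≃* Fˣ :=
  MulEquiv.ofBijective (MonoidHom.id Fˣ * powMonoidHom (2 ^ m))
    (Finite.injective_iff_bijective.1 ((injective_iff_map_eq_one _).2 fun k hk =>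
      h.units_mul_rho_injective hk))

theorem unitsEquiv_apply (k : Fˣ) : unitsEquiv h k = k * rho m k := rfl

/-- The torus, parametrised by the weight of the first basis vector. -/
noncomputable def tor : Fˣ →* Cfsg.Sz F m := (dHom h).comp (unitsEquiv h).symm.toMonoidHom

/-- The weights of the natural representation. -/
def wt (u : Fˣ) : Fin 4 → F :=
  ![(u : F), theta h (u : F) / u, (u : F) / theta h (u : F), ((u : F))⁻¹]

theorem theta_unitsEquiv (k : Fˣ) :
    theta h ((unitsEquiv h k : Fˣ) : F) = (k : F) * sig m (k : F) := by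
  have h1 : (((rho m k : Fˣ) : F)) ^ 2 = sig m (k : F) := h.units_rho_sq k
  apply h.pow_sq_inj
  have h2 : theta h ((((unitsEquiv h k : Fˣ) : F)) ^ 2) = theta h ((k : F) ^ 2 * sig m (k : F)) := by
    rw [unitsEquiv_apply, Units.val_mul, mul_pow, h1]
  rw [map_pow] at h2
  rw [h2, map_mul, theta_apply, theta_apply, h.sig_sig, sq (k : F), sig_mul]
  ring

theorem mat_dS (k : Fˣ) : mat (dS h k) = Matrix.diagonal (wt h (unitsEquiv h k)) := by
  have hr0 : ((rho m k : Fˣ) : F) ≠ 0 := Units.ne_zero _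
  have hθ : theta h ((unitsEquiv h k : Fˣ) : F) = (k : F) * ((rho m k : Fˣ) : F) ^ 2 := by
    rw [theta_unitsEquiv, h.units_rho_sq]
  show ((dMat m k : SpecialLinearGroup (Fin 4) F) : Matrix (Fin 4) (Fin 4) F) = _
  unfold dMat wt
  rw [hθ, unitsEquiv_apply]
  ext i j
  have hk0 : (k : F) ≠ 0 := k.ne_zero
  fin_cases i <;> fin_cases j <;> simp [Matrix.diagonal] <;> field_simp

theorem mat_tor (u : Fˣ) : mat (tor h u) = Matrix.diagonal (wt h u) := by
  show mat (dS h ((unitsEquiv h).symm u)) = _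
  rw [mat_dS, MulEquiv.apply_symm_apply]

theorem tor_conj_zS (u : Fˣ) (b : F) :
    tor h u * zS h b * (tor h u)⁻¹ = zS h (theta h (u : F) * b) := by
  show dS h ((unitsEquiv h).symm u) * tS h 0 b * (dS h ((unitsEquiv h).symm u))⁻¹ = _
  rw [dS_conj, mul_zero, ← theta_unitsEquiv, MulEquiv.apply_symm_apply]
  rfl

theorem wS_conj_tor (u : Fˣ) : wS h * tor h u * wS h = tor h u⁻¹ := by
  show wS h * dS h ((unitsEquiv h).symm u) * wS h = dS h ((unitsEquiv h).symm u⁻¹)
  rw [wS_conj_dS, map_inv]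

theorem mat_wS : mat (wS h) = !![0, 0, 0, 1; 0, 0, 1, 0; 0, 1, 0, 0; 1, 0, 0, 0] := rfl

theorem mat_zS (b : F) :
    mat (zS h b) = !![1, 0, b, theta h b; 0, 1, 0, b; 0, 0, 1, 0; 0, 0, 0, 1] := by
  show ((tMat m 0 b : SpecialLinearGroup (Fin 4) F) : Matrix (Fin 4) (Fin 4) F) = _
  simp [tMat, ovf, sig_zero, theta_apply]

theorem nat_wS (σ : F →+* F) (u : Fin 4 → F) :
    nat m σ (wS h) u = ![u 3, u 2, u 1, u 0] := by
  rw [nat_apply, mat_wS]
  ext i
  fin_cases i <;> simp [Matrix.mulVec, dotProduct, Fin.sum_univ_four]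

theorem nat_zS (σ : F →+* F) (b : F) (u : Fin 4 → F) :
    nat m σ (zS h b) u =
      ![u 0 + σ b * u 2 + σ (theta h b) * u 3, u 1 + σ b * u 3, u 2, u 3] := by
  rw [nat_apply, mat_zS]
  ext i
  fin_cases i <;> simp [Matrix.mulVec, dotProduct, Fin.sum_univ_four]

theorem nat_tor (σ : F →+* F) (v : Fˣ) (u : Fin 4 → F) :
    nat m σ (tor h v) u = fun i => σ (wt h v i) * u i := by
  rw [nat_apply, mat_tor]
  ext i
  fin_cases i <;> simp [Matrix.mulVec, dotProduct, Fin.sum_univ_four, Matrix.diagonal]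

omit h in
theorem isPGroup_charTwo : IsPGroup 2 (Multiplicative F) := fun x => ⟨1, by
  rw [pow_one, pow_two]
  exact congrArg Multiplicative.ofAdd (CharTwo.add_self_eq_zero x.toAdd)⟩

/-! ### Weight vectors -/

/-- The projection on the weight space of `χ`. -/
noncomputable def wproj (ρ : Representation F (Cfsg.Sz F m) E) (χ : Fˣ →* F) : E →ₗ[F] E :=
  ∑ u : Fˣ, χ u⁻¹ • ρ (tor h u)

theorem card_units_cast : ((Fintype.card Fˣ : ℕ) : F) = 1 := by
  classical
  rw [Fintype.card_units]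
  have h1 : ((Fintype.card F - 1 : ℕ) : F) + 1 = 0 := by
    rw [← Nat.cast_add_one, Nat.sub_add_cancel (by have := h.four_lt_card; omega)]
    exact FiniteField.cast_card_eq_zero F
  exact h.eq_of_add_eq_zero h1

theorem wproj_weight (ρ : Representation F (Cfsg.Sz F m) E) (χ : Fˣ →* F) (v : Fˣ) (e : E) :
    ρ (tor h v) (wproj h ρ χ e) = χ v • wproj h ρ χ e := by
  simp only [wproj, LinearMap.sum_apply, LinearMap.smul_apply, map_sum, map_smul, Finset.smul_sum]
  refine Fintype.sum_equiv (Equiv.mulLeft v) _ _ fun u => ?_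
  show χ u⁻¹ • ρ (tor h v) (ρ (tor h u) e) = χ v • χ (v * u)⁻¹ • ρ (tor h (v * u)) e
  rw [smul_smul, ← map_mul, _root_.mul_inv_rev, mul_comm u⁻¹, mul_inv_cancel_left, map_mul,
    map_mul ρ]
  rfl

theorem wproj_of_weight (ρ : Representation F (Cfsg.Sz F m) E) (χ : Fˣ →* F) {e : E}
    (he : ∀ v, ρ (tor h v) e = χ v • e) : wproj h ρ χ e = e := by
  simp only [wproj, LinearMap.sum_apply, LinearMap.smul_apply, he, smul_smul, ← map_mul,
    inv_mul_cancel, map_one, one_smul, Finset.sum_const, Finset.card_univ]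
  rw [← Nat.cast_smul_eq_nsmul F, card_units_cast h, one_smul]

theorem map_wproj {E' : Type*} [AddCommGroup E'] [Module F E']
    (ρ : Representation F (Cfsg.Sz F m) E) (ρ' : Representation F (Cfsg.Sz F m) E')
    (f : E →ₗ[F] E') (hf : ∀ g e, f (ρ g e) = ρ' g (f e)) (χ : Fˣ →* F) (e : E) :
    f (wproj h ρ χ e) = wproj h ρ' χ (f e) := by
  simp [wproj, LinearMap.sum_apply, map_sum, hf]

end CfsgLib.SzFpf
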