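import Mathlib
import Cfsg.Agent.Lib.SzFpf.Basic

/-!
Elementary abelian 2-groups with a Suzuki action: base change to the field and descent.
-/

set_option autoImplicit false
set_option linter.unusedSectionVars false

namespace CfsgLib.SzFpf

open CfsgLib.Suzuki Matrix
open scoped TensorProduct

variable {F : Type*} [Field F] [Fintype F] [DecidableEq F] [CharP F 2] {m : ℕ}

section BaseChange

variable [Algebra (ZMod 2) F] {A : Type*} [AddCommGroup A] [Module (ZMod 2) A]

/-- An action by additive maps as a representation over the prime field. -/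
def linAct (act : Cfsg.Sz F m →* AddMonoid.End A) :
    Representation (ZMod 2) (Cfsg.Sz F m) A where
  toFun g := AddMonoidHom.toZModLinearMap 2 (act g)
  map_one' := LinearMap.ext fun a => by rw [map_one]; rfl
  map_mul' g g' := LinearMap.ext fun a => by rw [map_mul]; rfl

theorem linAct_apply (act : Cfsg.Sz F m →* AddMonoid.End A) (g : Cfsg.Sz F m) (a : A) :
    linAct act g a = act g a := rfl

/-- The base change of an action to the field. -/
noncomputable def baseRep (act : Cfsg.Sz F m →* AddMonoid.End A) :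
    Representation F (Cfsg.Sz F m) (F ⊗[ZMod 2] A) where
  toFun g := (linAct act g).baseChange F
  map_one' := by rw [map_one]; exact LinearMap.baseChange_one _ _
  map_mul' g g' := by rw [map_mul]; exact LinearMap.baseChange_mul _ _

theorem baseRep_tmul (act : Cfsg.Sz F m →* AddMonoid.End A) (g : Cfsg.Sz F m) (x : F) (a : A) :
    baseRep act g (x ⊗ₜ[ZMod 2] a) = x ⊗ₜ[ZMod 2] act g a := rfl

theorem baseRep_fpf5 [Finite A] (act : Cfsg.Sz F m →* AddMonoid.End A)
    (hfpf : ∀ g, g ^ 5 = 1 → g ≠ 1 → ∀ a, act g a = a → a = 0) : Fpf5 (baseRep act) := by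
  intro g hg5 hg1 e he
  let L : A →ₗ[ZMod 2] A := linAct act g - LinearMap.id
  have hinj : Function.Injective L := by
    refine (injective_iff_map_eq_zero L).2 fun a ha => hfpf g hg5 hg1 a ?_
    exact sub_eq_zero.1 ha
  let L' : A ≃ₗ[ZMod 2] A := LinearEquiv.ofBijective L (Finite.injective_iff_bijective.1 hinj)
  have h0 : L.baseChange F e = 0 := by
    rw [LinearMap.baseChange_sub, LinearMap.sub_apply, LinearMap.baseChange_id, LinearMap.id_apply]
    exact sub_eq_zero.2 he
  have h1 : ((L'.symm : A →ₗ[ZMod 2] A) ∘ₗ L) = LinearMap.id :=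
    LinearMap.ext fun a => L'.symm_apply_apply a
  have h2 := congrArg (fun f : A →ₗ[ZMod 2] A => f.baseChange F e) h1
  simp only [LinearMap.baseChange_comp, LinearMap.comp_apply, LinearMap.baseChange_id,
    LinearMap.id_apply, h0, map_zero] at h2
  exact h2.symm

variable (F) in
theorem exists_functional : ∃ ℓ : F →ₗ[ZMod 2] ZMod 2, ℓ 1 = 1 := by
  obtain ⟨ℓ, hℓ⟩ := LinearMap.exists_leftInverse_of_injective
    (Algebra.linearMap (ZMod 2) F) (LinearMap.ker_eq_bot.2 (algebraMap (ZMod 2) F).injective)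
  exact ⟨ℓ, by simpa using LinearMap.congr_fun hℓ 1⟩

/-- Contraction of the base change by a functional of the field. -/
noncomputable def toA (ℓ : F →ₗ[ZMod 2] ZMod 2) : F ⊗[ZMod 2] A →ₗ[ZMod 2] A :=
  (TensorProduct.lid (ZMod 2) A).toLinearMap ∘ₗ LinearMap.rTensor A ℓ

theorem toA_tmul (ℓ : F →ₗ[ZMod 2] ZMod 2) (x : F) (a : A) :
    toA ℓ (x ⊗ₜ[ZMod 2] a) = ℓ x • a := by simp [toA]

theorem toA_baseRep (ℓ : F →ₗ[ZMod 2] ZMod 2) (act : Cfsg.Sz F m →* AddMonoid.End A)
    (g : Cfsg.Sz F m) (e : F ⊗[ZMod 2] A) : toA ℓ (baseRep act g e) = act g (toA ℓ e) := by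
  induction e with
  | zero => simp
  | tmul x a =>
    rw [baseRep_tmul, toA_tmul, toA_tmul]
    exact (ZMod.map_smul (act g : A →+ A) (ℓ x) a).symm
  | add x y ihx ihy => simp only [map_add, ihx, ihy]

variable (F) in
theorem one_tmul_injective : Function.Injective fun a : A => (1 : F) ⊗ₜ[ZMod 2] a := by
  obtain ⟨ℓ, hℓ⟩ := exists_functional F
  intro a b e
  simpa [toA_tmul, hℓ] using congrArg (toA ℓ) e

/-- If the base change is spanned by twisted natural modules, so is the group. -/
theorem span_natural (act : Cfsg.Sz F m →* AddMonoid.End A)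
    (hspan : natSpan (baseRep act) = ⊤) :
    AddSubgroup.closure {a : A | ∃ (σ : F →+* F) (θ : (Fin 4 → F) →+ A),
      (∀ g u, θ (nat m σ g u) = act g (θ u)) ∧ ∃ u, θ u = a} = ⊤ := by
  obtain ⟨ℓ, hℓ⟩ := exists_functional F
  refine eq_top_iff.2 fun a _ => ?_
  have ha : (1 : F) ⊗ₜ[ZMod 2] a ∈ natSpan (baseRep act) := by rw [hspan]; trivial
  suffices key : ∀ e ∈ natSpan (baseRep act), toA ℓ e ∈ AddSubgroup.closure
      {a : A | ∃ (σ : F →+* F) (θ : (Fin 4 → F) →+ A),
        (∀ g u, θ (nat m σ g u) = act g (θ u)) ∧ ∃ u, θ u = a} by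
    simpa [toA_tmul, hℓ] using key _ ha
  intro e he
  induction he using Submodule.iSup_induction' with
  | zero => rw [map_zero]; exact zero_mem _
  | add x y _ _ ihx ihy => rw [map_add]; exact add_mem ihx ihy
  | mem σ e he =>
    induction he using Submodule.iSup_induction' with
    | zero => rw [map_zero]; exact zero_mem _
    | add x y _ _ ihx ihy => rw [map_add]; exact add_mem ihx ihy
    | mem φ e he =>
      induction he using Submodule.iSup_induction' with
      | zero => rw [map_zero]; exact zero_mem _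
      | add x y _ _ ihx ihy => rw [map_add]; exact add_mem ihx ihy
      | mem hφ e he =>
        obtain ⟨u, rfl⟩ := he
        refine AddSubgroup.subset_closure
          ⟨σ, (toA ℓ).toAddMonoidHom.comp φ.toAddMonoidHom, fun g v => ?_, u, rfl⟩
        show toA ℓ (φ (nat m σ g v)) = act g (toA ℓ (φ v))
        rw [hφ, toA_baseRep]

end BaseChange

/-- The twisted natural modules have no proper invariant additive subgroup. -/
theorem nat_irreducible (h : SzHyp F m) (σ : F →+* F) (K : AddSubgroup (Fin 4 → F))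
    (hK : ∀ g, ∀ u ∈ K, nat m σ g u ∈ K) (hne : K ≠ ⊥) : K = ⊤ := by
  have := Fact.mk Nat.prime_two
  have hσ : Function.Surjective σ := Finite.injective_iff_surjective.1 σ.injective
  let _ : MulAction (tGroup h) K :=
    { smul := fun g u => ⟨nat m σ (g : Cfsg.Sz F m) u, hK _ _ u.2⟩
      one_smul := fun u => Subtype.ext (by show nat m σ 1 (u : Fin 4 → F) = _; rw [map_one]; rfl)
      mul_smul := fun g g' u => Subtype.ext (by
        show nat m σ ((g : Cfsg.Sz F m) * g') (u : Fin 4 → F) = _
        rw [map_mul]; rfl) }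
  obtain ⟨v, hvK, hv0⟩ : ∃ v ∈ K, v ≠ 0 := by
    by_contra hc
    push Not at hc
    exact hne ((AddSubgroup.eq_bot_iff_forall K).2 hc)
  have hdvd : 2 ∣ Nat.card K := by
    have h2 : addOrderOf (⟨v, hvK⟩ : K) = 2 := by
      refine addOrderOf_eq_prime ?_ (fun e => hv0 (congrArg Subtype.val e))
      refine Subtype.ext (funext fun i => ?_)
      show ((2 : ℕ) • v) i = 0
      rw [two_nsmul]; exact h.add_self _
    exact h2 ▸ addOrderOf_dvd_natCard _
  obtain ⟨u, hu, hu0⟩ := (isPGroup_tGroup h).exists_fixed_point_of_prime_dvd_card_of_fixed_point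
    K hdvd (a := (0 : K)) (MulAction.mem_fixedPoints.2 fun g => Subtype.ext (map_zero _))
  have hfix : ∀ a b, nat m σ (tS h a b) (u : Fin 4 → F) = u := fun a b =>
    congrArg Subtype.val (MulAction.mem_fixedPoints.1 hu ⟨tS h a b, tS_mem_tGroup h a b⟩)
  have hz : nat m σ (zS h 1) (u : Fin 4 → F) = u := hfix 0 1
  rw [nat_zS] at hz
  have hu3 : (u : Fin 4 → F) 3 = 0 := by simpa using congrFun hz 1
  have hu2 : (u : Fin 4 → F) 2 = 0 := by simpa [hu3] using congrFun hz 0
  have hu1 : (u : Fin 4 → F) 1 = 0 := by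
    have ht := congrFun (hfix 1 0) 0
    rw [nat_apply] at ht
    simpa [mat, tS, tMat, Matrix.mulVec, dotProduct, Fin.sum_univ_four, hu2, hu3, sig_one] using ht
  have hc : (u : Fin 4 → F) 0 ≠ 0 := by
    intro e
    apply hu0
    refine Subtype.ext (funext fun i => ?_)
    fin_cases i <;> simp [e, hu1, hu2, hu3]
  have h0 : ∀ x : F, (![x, 0, 0, 0] : Fin 4 → F) ∈ K := by
    intro x
    by_cases hx : x = 0
    · subst hx
      convert zero_mem K using 1
      ext i; fin_cases i <;> simp
    obtain ⟨y, hy⟩ := hσ (x / (u : Fin 4 → F) 0)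
    have hy0 : y ≠ 0 := by
      rintro rfl
      rw [map_zero] at hy
      exact div_ne_zero hx hc hy.symm
    convert hK (tor h (Units.mk0 y hy0)) _ u.2 using 1
    rw [nat_tor]
    ext i
    fin_cases i <;> simp [wt, hu1, hu2, hu3, hy, hc]
  have h3 : ∀ x : F, (![0, 0, 0, x] : Fin 4 → F) ∈ K := by
    intro x
    convert hK (wS h) _ (h0 x) using 1
    rw [nat_wS]
    ext i; fin_cases i <;> simp
  have h1 : ∀ x : F, (![0, x, 0, 0] : Fin 4 → F) ∈ K := by
    intro x
    convert sub_mem (sub_mem (hK (zS h 1) _ (h3 x)) (h0 (σ (theta h 1) * x))) (h3 x) using 1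
    rw [nat_zS]
    ext i; fin_cases i <;> simp
  have h2 : ∀ x : F, (![0, 0, x, 0] : Fin 4 → F) ∈ K := by
    intro x
    convert hK (wS h) _ (h1 x) using 1
    rw [nat_wS]
    ext i; fin_cases i <;> simp
  refine eq_top_iff.2 fun v _ => ?_
  convert add_mem (add_mem (h0 (v 0)) (h1 (v 1))) (add_mem (h2 (v 2)) (h3 (v 3))) using 1
  ext i; fin_cases i <;> simp

end CfsgLib.SzFpf
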