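import Mathlib
import Cfsg.Agent.Lib.SzFpf.Basic

/-!
The involution `w` and the central translations generate the Suzuki group; `w z` has order five.
-/

set_option autoImplicit false
set_option linter.unusedSectionVars false

namespace CfsgLib.SzFpf

open CfsgLib.Suzuki Matrix

variable {F : Type*} [Field F] [Fintype F] [DecidableEq F] [CharP F 2] {m : ℕ}
variable (h : SzHyp F m)
include h

theorem zS_eq_one {b : F} : zS h b = 1 ↔ b = 0 := by
  rw [zS, tS_eq_one]
  exact ⟨fun e => e.2, fun e => ⟨rfl, e⟩⟩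

theorem tS_conj_zS (a b c : F) : tS h a b * zS h c * (tS h a b)⁻¹ = zS h c := by
  rw [mul_inv_eq_iff_eq_mul, zS, tS_mul, tS_mul, sig_zero, mul_zero, zero_mul, add_zero, zero_add,
    add_comm b c]

/-- Every `x ≠ 0` is `b / θ b` for some `b ≠ 0`. -/
theorem exists_div_theta {x : F} (hx : x ≠ 0) : ∃ b : F, b ≠ 0 ∧ b / sig m b = x := by
  let f : Fˣ →* Fˣ := MonoidHom.id Fˣ / Units.map (theta h).toMonoidHom
  have hf : Function.Injective f := by
    refine (injective_iff_map_eq_one _).2 fun u hu => ?_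
    have h1 : u = Units.map (theta h).toMonoidHom u := div_eq_one.1 hu
    have h2 : sig m (u : F) = u := (congrArg Units.val h1).symm
    rcases h.sig_fixed h2 with e | e
    · exact absurd e u.ne_zero
    · exact Units.ext e
  obtain ⟨u, hu⟩ := Finite.injective_iff_surjective.1 hf (Units.mk0 x hx)
  refine ⟨u, u.ne_zero, ?_⟩
  have h3 := congrArg Units.val hu
  simpa [f, theta_apply] using h3

/-- `w` and the central translations generate the group. -/
theorem closure_gen : Subgroup.closure (insert (wS h) (Set.range (zS h))) = ⊤ := by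
  set H := Subgroup.closure (insert (wS h) (Set.range (zS h))) with hH
  have hw : wS h ∈ H := Subgroup.subset_closure (Set.mem_insert _ _)
  have hz : ∀ b, zS h b ∈ H := fun b =>
    Subgroup.subset_closure (Set.mem_insert_of_mem _ ⟨b, rfl⟩)
  have htrans : ∀ p : Projectivization F (Fin 4 → F), p ∈ Cfsg.suzukiOvoid F m →
      ∃ z ∈ H, z • (pInf : Projectivization F (Fin 4 → F)) = p := by
    intro p hp
    rcases mem_ovoid.1 hp with rfl | ⟨x, y, rfl⟩
    · exact ⟨1, one_mem _, one_smul _ _⟩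
    · by_cases hx : x = 0
      · subst hx
        exact ⟨zS h y * wS h, mul_mem (hz y) hw, by rw [mul_smul, wS_smul_pInf, zS, tS_smul_p0]⟩
      · obtain ⟨b, hb, hbx⟩ := exists_div_theta h hx
        refine ⟨zS h y * (wS h * (zS h b * wS h)), mul_mem (hz y) (mul_mem hw (mul_mem (hz b) hw)), ?_⟩
        have hne : ¬((0 : F) = 0 ∧ b = 0) := fun e => hb e.2
        have ho : ovf m (0 : F) b = sig m b := by simp [ovf, sig_zero]
        rw [mul_smul, mul_smul, mul_smul, wS_smul_pInf, zS, zS, tS_smul_p0, wS_smul_pAff h hne,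
          tS_smul_pAff, ho, hbx, zero_div, sig_zero, zero_mul, add_zero, add_zero, zero_add]
  have hN : Subgroup.normalClosure {zS h 1} ≤ H := by
    rw [Subgroup.normalClosure, Subgroup.closure_le]
    intro y hy
    obtain ⟨t, ht, hty⟩ := Group.mem_conjugatesOfSet_iff.1 hy
    rw [Set.mem_singleton_iff] at ht
    subst ht
    obtain ⟨x, rfl⟩ := isConj_iff.1 hty
    obtain ⟨z, hzH, hzx⟩ := htrans _ (smul_ovoid x.2 (pInf_mem (F := F) (m := m)))
    obtain ⟨a, b, k, hk⟩ := exists_tS_dS h (g := z⁻¹ * x)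
      (by rw [mul_smul, inv_smul_eq_iff]; exact hzx.symm)
    have hxe : x = z * (tS h a b * dS h k) := by rw [← hk]; group
    rw [hxe, show z * (tS h a b * dS h k) * zS h 1 * (z * (tS h a b * dS h k))⁻¹ =
      z * (tS h a b * (dS h k * zS h 1 * (dS h k)⁻¹) * (tS h a b)⁻¹) * z⁻¹ by group]
    have hd : dS h k * zS h 1 * (dS h k)⁻¹ = zS h ((k : F) * sig m (k : F)) := by
      rw [zS, zS, dS_conj, mul_zero, mul_one]
    rw [hd, tS_conj_zS]
    exact mul_mem (mul_mem hzH (hz _)) (inv_mem hzH)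
  have := isSimpleGroup h
  rcases (Subgroup.normalClosure_normal (s := {zS h 1})).eq_bot_or_eq_top with e | e
  · have h1 : zS h 1 ∈ Subgroup.normalClosure {zS h 1} :=
      Subgroup.subset_normalClosure rfl
    rw [e, Subgroup.mem_bot, zS_eq_one] at h1
    exact absurd h1 one_ne_zero
  · exact top_le_iff.1 (e ▸ hN)

/-- Equivariance need only be checked on the generators. -/
theorem equivariant_of_gen {E : Type*} [AddCommGroup E] [Module F E] {E' : Type*}
    [AddCommGroup E'] [Module F E'] (ρ : Representation F (Cfsg.Sz F m) E)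
    (ρ' : Representation F (Cfsg.Sz F m) E') (f : E →ₗ[F] E')
    (hw : ∀ e, f (ρ (wS h) e) = ρ' (wS h) (f e))
    (hz : ∀ b e, f (ρ (zS h b) e) = ρ' (zS h b) (f e)) (g : Cfsg.Sz F m) :
    ∀ e, f (ρ g e) = ρ' g (f e) := by
  have hg : g ∈ Subgroup.closure (insert (wS h) (Set.range (zS h))) := by
    rw [closure_gen h]; exact Subgroup.mem_top g
  induction hg using Subgroup.closure_induction with
  | mem x hx =>
    rcases hx with rfl | ⟨b, rfl⟩
    exacts [hw, hz b]
  | one => intro e; simp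
  | mul x y _ _ ihx ihy => intro e; simp only [map_mul, Module.End.mul_apply, ihx, ihy]
  | inv x _ ih =>
    intro e
    have h1 := ih (ρ x⁻¹ e)
    rw [← Module.End.mul_apply, ← map_mul, mul_inv_cancel, map_one, Module.End.one_apply] at h1
    rw [h1, ← Module.End.mul_apply, ← map_mul, inv_mul_cancel, map_one, Module.End.one_apply]

theorem mat_wz : mat (wS h * zS h 1) =
    (!![0, 0, 0, 1; 0, 0, 1, 0; 0, 1, 0, 1; 1, 0, 1, 1] : Matrix (Fin 4) (Fin 4) (ZMod 2)).map
      (ZMod.castHom (dvd_refl 2) F) := by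
  show mat (wS h) * mat (zS h 1) = _
  rw [mat_wS, mat_zS, map_one]
  ext i j
  fin_cases i <;> fin_cases j <;> simp [Matrix.mul_apply, Fin.sum_univ_four]

theorem wz_pow_five : (wS h * zS h 1) ^ 5 = 1 := by
  apply Subtype.ext
  apply Subtype.ext
  have h0 : (!![0, 0, 0, 1; 0, 0, 1, 0; 0, 1, 0, 1; 1, 0, 1, 1] : Matrix (Fin 4) (Fin 4) (ZMod 2))
      ^ 5 = 1 := by decide +kernel
  show mat ((wS h * zS h 1) ^ 5) = 1
  have h1 : mat ((wS h * zS h 1) ^ 5) = mat (wS h * zS h 1) ^ 5 := by
    simp [mat]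
  rw [h1, mat_wz, ← RingHom.mapMatrix_apply, ← map_pow, h0, map_one]

theorem wz_ne_one : wS h * zS h 1 ≠ 1 := by
  intro e
  have h1 := congrArg (fun g => mat g 0 0) e
  simp only [mat_wz] at h1
  simp [mat] at h1

end CfsgLib.SzFpf
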