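import Mathlib
import Cfsg.Agent.Lib.SzFpf.Gen

/-!
A twisted natural map into a quotient by a twisted natural submodule lifts.
-/

set_option autoImplicit false
set_option linter.unusedSectionVars false

namespace CfsgLib.SzFpf

open CfsgLib.Suzuki Matrix

variable {F : Type*} [Field F] [Fintype F] [DecidableEq F] [CharP F 2] {m : ℕ}
variable {E : Type*} [AddCommGroup E] [Module F E]

variable (h : SzHyp F m)
include h

/-- The weights as characters. -/
noncomputable def wtHom (p : Fin 4) : Fˣ →* F where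
  toFun u := wt h u p
  map_one' := by fin_cases p <;> simp [wt]
  map_mul' u v := by fin_cases p <;> simp [wt, mul_div_mul_comm, mul_comm]

theorem wt_inv (u : Fˣ) (p : Fin 4) : wt h u⁻¹ p = wt h u p.rev := by
  fin_cases p <;> simp [wt, Fin.rev, div_eq_mul_inv, mul_comm]

/-- A weighted lift of a twisted natural map, with its defect at the central translations. -/
structure Defect (ρ : Representation F (Cfsg.Sz F m) E) (ς : F →+* F)
    (ψ φv : (Fin 4 → F) →ₗ[F] E) (C : F → Matrix (Fin 4) (Fin 4) F) : Prop where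
  w : ∀ u, φv (nat m ς (wS h) u) = ρ (wS h) (φv u)
  t : ∀ t u, φv (nat m ς (tor h t) u) = ρ (tor h t) (φv u)
  z : ∀ b u, ρ (zS h b) (φv u) = φv (nat m ς (zS h b) u) + ψ (C b *ᵥ u)

variable {h} {ρ : Representation F (Cfsg.Sz F m) E} {σ ς : F →+* F}
  {ψ φv : (Fin 4 → F) →ₗ[F] E} {C : F → Matrix (Fin 4) (Fin 4) F}

omit h in
/-- The action of `w z 1` in coordinates. -/
def stepU (u : Fin 4 → F) : Fin 4 → F := ![u 3, u 2, u 1 + u 3, u 0 + u 2 + u 3]

omit h in
/-- The action of `w z 1` on a lift and its defect. -/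
def step (c : Matrix (Fin 4) (Fin 4) F) (q : (Fin 4 → F) × (Fin 4 → F)) :
    (Fin 4 → F) × (Fin 4 → F) :=
  (stepU q.1, stepU q.2 + ![(c *ᵥ q.1) 3, (c *ᵥ q.1) 2, (c *ᵥ q.1) 1, (c *ᵥ q.1) 0])

theorem nat_step (τ : F →+* F) (u : Fin 4 → F) : nat m τ (wS h * zS h 1) u = stepU u := by
  rw [map_mul, Module.End.mul_apply, nat_zS, nat_wS]
  simp [stepU, map_one]

section

variable (hψ : IsNatMap ρ σ ψ) (hinj : Function.Injective ψ) (D : Defect h ρ ς ψ φv C)
include hψ hinj D

theorem Defect.cocycle (b c : F) :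
    C (b + c) = C b * (mat (zS h c)).map ς + (mat (zS h b)).map σ * C c := by
  refine Matrix.toLin'.injective (LinearMap.ext fun u => hinj ?_)
  rw [Matrix.toLin'_apply, Matrix.toLin'_apply, Matrix.add_mulVec, ← Matrix.mulVec_mulVec,
    ← Matrix.mulVec_mulVec, map_add]
  have e := D.z (b + c) u
  rw [← zS_mul, map_mul, Module.End.mul_apply, D.z c u, map_add, D.z b, ← hψ, map_mul,
    Module.End.mul_apply, add_assoc] at e
  exact (add_left_cancel e).symm

theorem Defect.torus (t : Fˣ) (b : F) (q p : Fin 4) :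
    σ (wt h t q) * C b q p = C (theta h (t : F) * b) q p * ς (wt h t p) := by
  have hm : Matrix.diagonal (fun i => σ (wt h t i)) * C b =
      C (theta h (t : F) * b) * Matrix.diagonal (fun i => ς (wt h t i)) := by
    have hg : tor h t * zS h b = zS h (theta h (t : F) * b) * tor h t := by
      rw [← tor_conj_zS, inv_mul_cancel_right]
    refine Matrix.toLin'.injective (LinearMap.ext fun u => hinj ?_)
    simp only [Matrix.toLin'_apply, ← Matrix.mulVec_mulVec]
    have e : ρ (tor h t * zS h b) (φv u) = ρ (zS h (theta h (t : F) * b) * tor h t) (φv u) := by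
      rw [hg]
    rw [map_mul, map_mul, Module.End.mul_apply, Module.End.mul_apply, D.z b, map_add, ← D.t,
      ← D.t, D.z, ← hψ] at e
    have hn : nat m ς (tor h t) (nat m ς (zS h b) u) =
        nat m ς (zS h (theta h (t : F) * b)) (nat m ς (tor h t) u) := by
      rw [← Module.End.mul_apply, ← map_mul, hg, map_mul, Module.End.mul_apply]
    rw [hn] at e
    have e' := add_left_cancel e
    rw [nat_apply, nat_apply, mat_tor, Matrix.diagonal_map (map_zero _),
      Matrix.diagonal_map (map_zero _)] at e'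
    exact e'
  have e := congrFun (congrFun hm q) p
  rwa [Matrix.diagonal_mul, Matrix.mul_diagonal] at e

theorem Defect.zero_of_one {q p : Fin 4} (h1 : C 1 q p = 0) (b : F) : C b q p = 0 := by
  by_cases hb : b = 0
  · subst hb
    have e := cocycle hψ hinj D 0 0
    rw [add_zero, zS_zero] at e
    simp [mat] at e
    simp [e]
  obtain ⟨x, hx⟩ := (Finite.injective_iff_surjective.1 (theta h).injective) b
  have hx0 : x ≠ 0 := fun e => hb (by rw [← hx, e, map_zero])
  have e := torus hψ hinj D (Units.mk0 x hx0) 1 q p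
  rw [h1, mul_zero, Units.val_mk0, hx, mul_one] at e
  refine (mul_eq_zero.1 e.symm).resolve_right ((map_ne_zero ς).2 ?_)
  fin_cases p <;> simp [wt, hx0]

theorem Defect.comm_one : C 1 * (mat (zS h 1)).map ς + (mat (zS h 1)).map σ * C 1 = 0 := by
  rw [← cocycle hψ hinj D, h.add_self]
  ext q p
  have e := congrFun (congrFun (cocycle hψ hinj D 0 0) q) p
  rw [add_zero, zS_zero] at e
  simpa [mat] using e

theorem Defect.five (u : Fin 4 → F) :
    (step (C 1))^[5] (u, 0) = (u, 0) := by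
  have hX : ∀ q : (Fin 4 → F) × (Fin 4 → F), ρ (wS h * zS h 1) (φv q.1 + ψ q.2) =
      φv (step (C 1) q).1 + ψ (step (C 1) q).2 := by
    intro q
    rw [map_add, ← hψ, nat_step, map_mul, Module.End.mul_apply, D.z, map_add, ← D.w, ← hψ,
      ← Module.End.mul_apply (f := nat m ς (wS h)), ← map_mul, nat_step, nat_wS]
    show _ = φv (stepU q.1) +
      ψ (stepU q.2 + ![(C 1 *ᵥ q.1) 3, (C 1 *ᵥ q.1) 2, (C 1 *ᵥ q.1) 1, (C 1 *ᵥ q.1) 0])
    rw [map_add, add_comm (ψ (stepU q.2)), add_assoc]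
  have hit : ∀ k q, ρ ((wS h * zS h 1) ^ k) (φv q.1 + ψ q.2) =
      φv ((step (C 1))^[k] q).1 + ψ ((step (C 1))^[k] q).2 := by
    intro k
    induction k with
    | zero => intro q; simp
    | succ k ih => intro q; rw [pow_succ, map_mul, Module.End.mul_apply, hX, ih]; rfl
  have hu : ∀ k q, ((step (C 1))^[k] q).1 = nat m ς ((wS h * zS h 1) ^ k) q.1 := by
    intro k
    induction k with
    | zero => intro q; simp
    | succ k ih =>
      intro q
      rw [Function.iterate_succ_apply, ih, pow_succ, map_mul, Module.End.mul_apply, nat_step]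
      rfl
  have h1 := hu 5 (u, 0)
  rw [wz_pow_five, map_one] at h1
  have e := hit 5 (u, 0)
  rw [wz_pow_five, map_one, h1] at e
  exact Prod.ext h1 (hinj (by simpa using e.symm))

theorem Defect.entry_endo {q p : Fin 4} (hne : C 1 q p ≠ 0)
    (hadd : ∀ b c, C (b + c) q p = C b q p + C c q p) :
    ∃ T : F →+* F, ∀ t : Fˣ, T (t : F) * ς (wt h t p) = σ (wt h t q) := by
  have hχ : ∀ v : Fˣ, ∀ x, C ((v : F) * x) q p = C v q p / C 1 q p * C x q p := by
    intro v x
    obtain ⟨y, hy⟩ := (Finite.injective_iff_surjective.1 (theta h).injective) (v : F)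
    have hy0 : y ≠ 0 := fun e => v.ne_zero (by rw [← hy, e, map_zero])
    have e := torus hψ hinj D (Units.mk0 y hy0) x q p
    have e1 := torus hψ hinj D (Units.mk0 y hy0) 1 q p
    rw [Units.val_mk0, hy] at e e1
    rw [mul_one] at e1
    have hw : ς (wt h (Units.mk0 y hy0) p) ≠ 0 := by
      rw [map_ne_zero]; fin_cases p <;> simp [wt, hy0]
    rw [div_mul_eq_mul_div, eq_div_iff hne]
    refine mul_right_cancel₀ hw ?_
    linear_combination (-C 1 q p) * e + C x q p * e1
  obtain ⟨τ, hτ, -⟩ := exists_endo (AddMonoidHom.mk' (fun b => C b q p) hadd) hne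
    (fun v => C v q p / C 1 q p) (fun v x => hχ (Units.mk0 _ v.ne_zero) x |>.trans (by simp))
  refine ⟨τ.comp (theta h), fun t => ?_⟩
  have e := torus hψ hinj D t 1 q p
  have e' : C (theta h (t : F)) q p = C 1 q p * τ (theta h (t : F)) := hτ _
  rw [mul_one, e'] at e
  exact mul_left_cancel₀ hne (by rw [RingHom.comp_apply]; linear_combination -e)

theorem Defect.change (K : Matrix (Fin 4) (Fin 4) F)
    (hw : ∀ q p, K q.rev p.rev = K q p)
    (ht : ∀ q p, K q p ≠ 0 → ∀ t : Fˣ, σ (wt h t q) = ς (wt h t p)) :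
    Defect h ρ ς ψ (φv + ψ ∘ₗ K.mulVecLin)
      (fun b => C b + ((mat (zS h b)).map σ * K + K * (mat (zS h b)).map ς)) := by
  have hψ' := fun g x => (hψ g x).symm
  refine ⟨fun u => ?_, fun t u => ?_, fun b u => ?_⟩
  · simp only [LinearMap.add_apply, LinearMap.comp_apply, Matrix.mulVecLin_apply, map_add, D.w,
      hψ']
    congr 2
    rw [nat_wS, nat_wS]
    funext i
    have k0 : K 3 3 = K 0 0 := hw 0 0
    have k1 : K 3 2 = K 0 1 := hw 0 1
    have k2 : K 3 1 = K 0 2 := hw 0 2
    have k3 : K 3 0 = K 0 3 := hw 0 3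
    have k4 : K 2 3 = K 1 0 := hw 1 0
    have k5 : K 2 2 = K 1 1 := hw 1 1
    have k6 : K 2 1 = K 1 2 := hw 1 2
    have k7 : K 2 0 = K 1 3 := hw 1 3
    fin_cases i <;>
      simp [Matrix.mulVec, dotProduct, Fin.sum_univ_four, k0, k1, k2, k3, k4, k5, k6, k7] <;> ring
  · simp only [LinearMap.add_apply, LinearMap.comp_apply, Matrix.mulVecLin_apply, map_add, D.t,
      hψ']
    congr 2
    rw [nat_tor, nat_tor]
    funext i
    simp only [Matrix.mulVec, dotProduct, Finset.mul_sum]
    refine Finset.sum_congr rfl fun p _ => ?_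
    by_cases hk : K i p = 0
    · simp [hk]
    · rw [ht i p hk t]; ring
  · simp only [LinearMap.add_apply, LinearMap.comp_apply, Matrix.mulVecLin_apply, map_add, D.z,
      hψ', nat_apply, Matrix.add_mulVec, ← Matrix.mulVec_mulVec]
    have : ∀ x : Fin 4 → F, ψ x + ψ x = 0 := fun x => by
      rw [← map_add, show x + x = 0 from funext fun i => CharTwo.add_self_eq_zero (x i), map_zero]
    linear_combination (norm := abel) -(this (K *ᵥ ((mat (zS h b)).map ς *ᵥ u)))

end

section

variable (hψ : IsNatMap ρ σ ψ) (hinj : Function.Injective ψ) (D : Defect h ρ ς ψ φv C)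
include hψ hinj D

theorem Defect.lower : C 1 2 0 = 0 ∧ C 1 2 1 = 0 ∧ C 1 3 0 = 0 ∧ C 1 3 1 = 0 := by
  have e := fun q p => congrFun (congrFun (D.comm_one hψ hinj) q) p
  simp only [Matrix.add_apply, Matrix.mul_apply, Fin.sum_univ_four, mat_zS, Matrix.zero_apply] at e
  have e00 := e 0 0; have e01 := e 0 1; have e10 := e 1 0; have e11 := e 1 1
  simp at e00 e01 e10 e11
  refine ⟨?_, ?_, ?_, ?_⟩
  · linear_combination (norm := (ring_nf; try reduce_mod_char!)) e00 + e10
  · linear_combination (norm := (ring_nf; try reduce_mod_char!)) e01 + e11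
  · linear_combination (norm := (ring_nf; try reduce_mod_char!)) e10
  · linear_combination (norm := (ring_nf; try reduce_mod_char!)) e11

theorem Defect.rel : C 1 1 0 = C 1 3 2 ∧ C 1 0 0 = C 1 2 2 + C 1 3 2 ∧
    C 1 1 1 = C 1 3 2 + C 1 3 3 ∧ C 1 0 1 = C 1 2 2 + C 1 2 3 + C 1 3 2 + C 1 3 3 := by
  have e := fun q p => congrFun (congrFun (D.comm_one hψ hinj) q) p
  simp only [Matrix.add_apply, Matrix.mul_apply, Fin.sum_univ_four, mat_zS, Matrix.zero_apply] at e
  have e02 := e 0 2; have e03 := e 0 3; have e12 := e 1 2; have e13 := e 1 3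
  simp at e02 e03 e12 e13
  refine ⟨?_, ?_, ?_, ?_⟩
  · linear_combination (norm := (ring_nf; try reduce_mod_char!)) e12
  · linear_combination (norm := (ring_nf; try reduce_mod_char!)) e02
  · linear_combination (norm := (ring_nf; try reduce_mod_char!)) e13 + e12
  · linear_combination (norm := (ring_nf; try reduce_mod_char!)) e03 + e02

theorem Defect.five_rel : C 1 0 3 = C 1 1 2 ∧ C 1 0 2 + C 1 1 2 + C 1 1 3 = 0 := by
  obtain ⟨l20, l21, l30, l31⟩ := D.lower hψ hinj
  have e := fun j : Fin 4 =>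
    congrFun (congrArg Prod.snd (D.five hψ hinj (Pi.single j 1))) 0
  have e0 := e 0; have e1 := e 1; have e2 := e 2; have e3 := e 3
  simp [step, stepU, Matrix.mulVec, dotProduct, Fin.sum_univ_four,
    l20, l21, l30, l31] at e0 e1 e2 e3
  exact ⟨by linear_combination (norm := (ring_nf; try reduce_mod_char!)) e0 + e2 + e3,
    by linear_combination (norm := (ring_nf; try reduce_mod_char!)) e1 + e3⟩

theorem Defect.add_diag (q p : Fin 4) (hqp : 2 ≤ q ∨ p ≤ 1) (b c : F) :
    C (b + c) q p = C b q p + C c q p := by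
  obtain ⟨l20, l21, l30, l31⟩ := D.lower hψ hinj
  have e := congrFun (congrFun (D.cocycle hψ hinj b c) q) p
  rw [e]
  fin_cases q <;> fin_cases p <;> simp_all [Matrix.mul_apply, Fin.sum_univ_four, mat_zS,
    D.zero_of_one hψ hinj l20, D.zero_of_one hψ hinj l21, D.zero_of_one hψ hinj l30,
    D.zero_of_one hψ hinj l31]

theorem Defect.add_all (h00 : C 1 0 0 = 0) (h01 : C 1 0 1 = 0) (h10 : C 1 1 0 = 0)
    (h11 : C 1 1 1 = 0) (h22 : C 1 2 2 = 0) (h23 : C 1 2 3 = 0) (h32 : C 1 3 2 = 0)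
    (h33 : C 1 3 3 = 0) (q p : Fin 4) (b c : F) :
    C (b + c) q p = C b q p + C c q p := by
  obtain ⟨l20, l21, l30, l31⟩ := D.lower hψ hinj
  have e := congrFun (congrFun (D.cocycle hψ hinj b c) q) p
  rw [e]
  fin_cases q <;> fin_cases p <;> simp [Matrix.mul_apply, Fin.sum_univ_four, mat_zS,
    D.zero_of_one hψ hinj l20, D.zero_of_one hψ hinj l21, D.zero_of_one hψ hinj l30,
    D.zero_of_one hψ hinj l31, D.zero_of_one hψ hinj h00, D.zero_of_one hψ hinj h01,
    D.zero_of_one hψ hinj h10, D.zero_of_one hψ hinj h11, D.zero_of_one hψ hinj h22,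
    D.zero_of_one hψ hinj h23, D.zero_of_one hψ hinj h32, D.zero_of_one hψ hinj h33]

theorem Defect.endo_rel {s : F →+* F} (hs : ∀ x, ς (s x) = σ x) {q p : Fin 4}
    (hne : C 1 q p ≠ 0) (hadd : ∀ b c, C (b + c) q p = C b q p + C c q p) :
    ∃ T : F →+* F, ∀ (x : F) (hx : x ≠ 0),
      T x * wt h (Units.mk0 x hx) p = s (wt h (Units.mk0 x hx) q) := by
  obtain ⟨T, hT⟩ := D.entry_endo hψ hinj hne hadd
  obtain ⟨e, he⟩ : ∃ e : F ≃+* F, ∀ x, e x = ς x :=
    ⟨RingEquiv.ofBijective ς ⟨ς.injective, Finite.injective_iff_surjective.1 ς.injective⟩,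
      fun x => rfl⟩
  refine ⟨(e.symm : F →+* F).comp T, fun x hx => ς.injective ?_⟩
  have e' := hT (Units.mk0 x hx)
  rw [Units.val_mk0] at e'
  rw [map_mul, hs, ← e', RingHom.comp_apply, ← he (_ : F)]
  simp

theorem Defect.s_eq_id {s : F →+* F} (hs : ∀ x, ς (s x) = σ x) (h32 : C 1 3 2 ≠ 0) :
    s = RingHom.id F := by
  have h10 : C 1 1 0 ≠ 0 := by rwa [(D.rel hψ hinj).1]
  obtain ⟨T, hT⟩ := D.endo_rel hψ hinj hs h32 (D.add_diag hψ hinj 3 2 (Or.inl (by decide)))
  obtain ⟨U, hU⟩ := D.endo_rel hψ hinj hs h10 (D.add_diag hψ hinj 1 0 (Or.inr (by decide)))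
  have eT : ∀ x, T x * RingHom.id F x * s x = theta h x := fun x => by
    by_cases hx : x = 0
    · simp [hx]
    have e := hT x hx
    simp [wt] at e
    field_simp [(map_ne_zero s).2 hx, (map_ne_zero (theta h)).2 hx] at e
    rw [RingHom.id_apply]; linear_combination e
  have eU : ∀ x, U x * RingHom.id F x * s x = (s.comp (theta h)) x := fun x => by
    by_cases hx : x = 0
    · simp [hx]
    have e := hU x hx
    simp [wt] at e
    field_simp [(map_ne_zero s).2 hx, (map_ne_zero (theta h)).2 hx] at e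
    rw [RingHom.id_apply, RingHom.comp_apply]; linear_combination e
  rcases triple_eq eU with ⟨a, b, c⟩ | ⟨a, b, c⟩ | ⟨a, b, c⟩
  · refine absurd (fun x => s.injective ?_) (theta_ne_sq h)
    rw [← RingHom.comp_apply, c, map_mul]
  · rcases triple_eq eT with ⟨a', b', c'⟩ | ⟨a', b', c'⟩ | ⟨a', b', c'⟩
    · refine absurd (fun x => ?_) (pow_four_ne_id h)
      have := b x
      rw [a, b', a', RingHom.id_apply] at this
      linear_combination -this
    · exact absurd (fun x => by simpa using c' x) (theta_ne_sq h)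
    · exact a'.symm
  · exact a.symm

theorem Defect.c32_eq_zero : C 1 3 2 = 0 := by
  by_contra h32
  obtain ⟨e, he⟩ : ∃ e : F ≃+* F, ∀ x, e x = ς x :=
    ⟨RingEquiv.ofBijective ς ⟨ς.injective, Finite.injective_iff_surjective.1 ς.injective⟩,
      fun x => rfl⟩
  have hs : ∀ x, ς (((e.symm : F →+* F).comp σ) x) = σ x := fun x => by
    rw [← he]; simp
  have hid := D.s_eq_id hψ hinj hs h32
  have h00 : C 1 0 0 = 0 := by
    by_contra h00
    obtain ⟨T, hT⟩ := D.endo_rel hψ hinj hs h00 (D.add_diag hψ hinj 0 0 (Or.inr (by decide)))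
    obtain ⟨a, b⟩ := eq_of_eq_mul (α := T) (β := RingHom.id F) (γ := RingHom.id F) fun x => by
      by_cases hx : x = 0
      · simp [hx]
      simpa [wt, hid] using (hT x hx).symm
    exact sq_ne_id h fun x => by simpa [a] using (b x).symm
  have h22 : C 1 2 2 ≠ 0 := fun h22 => h32 (by simpa [h00, h22] using ((D.rel hψ hinj).2.1).symm)
  obtain ⟨T, hT⟩ := D.endo_rel hψ hinj hs h22 (D.add_diag hψ hinj 2 2 (Or.inl (by decide)))
  refine no_one (τ := T) (fun x hx => ?_) h.exists_ne_zero_one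
  exact (mul_eq_right₀ (by simp [wt, hx] : wt h (Units.mk0 x hx) 2 ≠ 0)).1 (by simpa [hid] using hT x hx)

end

theorem Defect.eta {s : F →+* F} (hs : ∀ x, ς (s x) = σ x) (hψ : IsNatMap ρ σ ψ)
    (hinj : Function.Injective ψ) (D : Defect h ρ ς ψ φv C) (hne : C 1 2 2 ≠ 0) :
    ∀ x, s x = x * x ∧ theta h x * theta h x = x := by
  have h00 : C 1 0 0 ≠ 0 := by
    simpa [(D.rel hψ hinj).2.1, D.c32_eq_zero hψ hinj] using hne
  obtain ⟨T, hT⟩ := D.endo_rel hψ hinj hs h00 (D.add_diag hψ hinj 0 0 (Or.inr (by decide)))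
  obtain ⟨U, hU⟩ := D.endo_rel hψ hinj hs hne (D.add_diag hψ hinj 2 2 (Or.inl (by decide)))
  obtain ⟨a, b⟩ := eq_of_eq_mul (α := T) (β := RingHom.id F) (γ := s) fun x => by
    by_cases hx : x = 0
    · simp [hx]
    simpa [wt] using (hT x hx).symm
  have hsq : ∀ x, s x = x * x := fun x => by simpa [a] using b x
  obtain ⟨a', b'⟩ := eq_of_eq_mul (α := U) (β := theta h) (γ := RingHom.id F) fun x => by
    by_cases hx : x = 0
    · simp [hx]
    have e := hU x hx
    simp [wt, hsq] at e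
    field_simp [(map_ne_zero (theta h)).2 hx] at e
    rcases e with e | e
    · rw [RingHom.id_apply]; linear_combination -e
    · exact absurd e hx
  exact fun x => ⟨hsq x, by simpa [a'] using (b' x).symm⟩

theorem Defect.eta' {s : F →+* F} (hs : ∀ x, ς (s x) = σ x) (hψ : IsNatMap ρ σ ψ)
    (hinj : Function.Injective ψ) (D : Defect h ρ ς ψ φv C) (hne : C 1 3 3 ≠ 0) :
    ∀ x, s x = theta h x ∧ theta h x * theta h x = x := by
  have h11 : C 1 1 1 ≠ 0 := by
    simpa [(D.rel hψ hinj).2.2.1, D.c32_eq_zero hψ hinj] using hne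
  obtain ⟨T, hT⟩ := D.endo_rel hψ hinj hs hne (D.add_diag hψ hinj 3 3 (Or.inl (by decide)))
  obtain ⟨U, hU⟩ := D.endo_rel hψ hinj hs h11 (D.add_diag hψ hinj 1 1 (Or.inr (by decide)))
  obtain ⟨a, b⟩ := eq_of_eq_mul (α := T) (β := s) (γ := RingHom.id F) fun x => by
    by_cases hx : x = 0
    · simp [hx]
    have e := hT x hx
    simp [wt] at e
    field_simp [(map_ne_zero s).2 hx] at e
    rw [RingHom.id_apply]; linear_combination -e
  have hb : ∀ x, x = s x * s x := fun x => by simpa [a] using b x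
  rcases pair_eq (α := U) (β := theta h) (γ := s.comp (theta h)) (δ := s) (fun x => by
    by_cases hx : x = 0
    · simp [hx]
    have e := hU x hx
    simp [wt] at e
    field_simp [(map_ne_zero s).2 hx] at e
    refine mul_right_cancel₀ ((map_ne_zero s).2 hx) ?_
    rw [RingHom.comp_apply]
    linear_combination e + s (theta h x) * hb x) with ⟨-, e⟩ | ⟨-, e⟩
  · exact fun x => ⟨by rw [e], by rw [e]; exact (hb x).symm⟩
  · refine absurd (fun x => ?_) (sq_ne_id h)
    obtain ⟨y, rfl⟩ := (Finite.injective_iff_surjective.1 (theta h).injective) x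
    have h1 : s (theta h y) = theta h y := (DFunLike.congr_fun e y).symm
    have h2 := hb (theta h y)
    rw [h1] at h2
    exact h2.symm

variable (h) in
theorem exists_lift {E' : Type*} [AddCommGroup E'] [Module F E']
    (ρ : Representation F (Cfsg.Sz F m) E) (ρ' : Representation F (Cfsg.Sz F m) E')
    (f : E →ₗ[F] E') (hf : ∀ g e, f (ρ g e) = ρ' g (f e)) (hsurj : Function.Surjective f)
    (σ : F →+* F) (ψ : (Fin 4 → F) →ₗ[F] E) (hψ : IsNatMap ρ σ ψ) (hinj : Function.Injective ψ)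
    (hker : LinearMap.range ψ = LinearMap.ker f)
    (ς : F →+* F) (φ : (Fin 4 → F) →ₗ[F] E') (hφ : IsNatMap ρ' ς φ) :
    ∃ φ' : (Fin 4 → F) →ₗ[F] E, IsNatMap ρ ς φ' ∧ f ∘ₗ φ' = φ := by
  obtain ⟨a, ha⟩ : ∃ a : Fin 4 → E, ∀ p, f (a p) = φ (Pi.single p 1) :=
    ⟨fun p => (hsurj _).choose, fun p => (hsurj _).choose_spec⟩
  let χ : Fin 4 → Fˣ →* F := fun p => ς.toMonoidHom.comp (wtHom h p)
  have hχφ : ∀ p t, ρ' (tor h t) (φ (Pi.single p 1)) = χ p t • φ (Pi.single p 1) := fun p t => by
    rw [← hφ, ← map_smul]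
    congr 1
    rw [nat_tor]
    funext i
    by_cases hi : i = p <;> simp [χ, wtHom, Pi.single_apply, hi]
  let y : Fin 4 → E := fun p => wproj h ρ (χ p) (a p)
  have hy : ∀ p, f (y p) = φ (Pi.single p 1) := fun p => by
    simp only [y]
    rw [map_wproj h ρ ρ' f hf, ha, wproj_of_weight h ρ' _ (hχφ p)]
  let v : Fin 4 → E := ![y 0, y 1, ρ (wS h) (y 1), ρ (wS h) (y 0)]
  have hww : ∀ e, ρ (wS h) (ρ (wS h) e) = e := fun e => by
    rw [← Module.End.mul_apply, ← map_mul, wS_mul_self]; simp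
  have hvw : ∀ p, v (Fin.rev p) = ρ (wS h) (v p) := fun p => by
    fin_cases p <;> simp [v, Fin.rev, hww]
  have hvy : ∀ p t, ρ (tor h t) (ρ (wS h) (y p)) = χ p.rev t • ρ (wS h) (y p) := fun p t => by
    have hg : tor h t * wS h = wS h * tor h t⁻¹ := by
      rw [← wS_conj_tor, mul_assoc (wS h), ← mul_assoc (wS h) (wS h), wS_mul_self, one_mul]
    rw [← Module.End.mul_apply, ← map_mul, hg, map_mul, Module.End.mul_apply, wproj_weight,
      map_smul]
    simp [χ, wtHom, wt_inv, y]
  have hvt : ∀ p t, ρ (tor h t) (v p) = χ p t • v p := fun p t => by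
    fin_cases p
    · exact wproj_weight h ρ _ t _
    · exact wproj_weight h ρ _ t _
    · exact hvy 1 t
    · exact hvy 0 t
  let φv := Fintype.linearCombination F v
  have hφv : ∀ u, φv u = ∑ i, u i • v i := fun u => Fintype.linearCombination_apply F v u
  have hfv : f ∘ₗ φv = φ := by
    refine LinearMap.pi_ext' fun p => LinearMap.ext_ring ?_
    simp only [LinearMap.comp_apply, LinearMap.single_apply]
    rw [show φv (Pi.single p 1) = v p by simp [φv]]
    have hw : ∀ q, ρ' (wS h) (φ (Pi.single q 1)) = φ (Pi.single q.rev 1) := fun q => by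
      rw [← hφ, nat_wS]
      congr 1
      funext i
      fin_cases q <;> fin_cases i <;> simp [Fin.rev, Pi.single_apply]
    fin_cases p
    · exact hy 0
    · exact hy 1
    · show f (ρ (wS h) (y 1)) = _; rw [hf, hy, hw]; rfl
    · show f (ρ (wS h) (y 0)) = _; rw [hf, hy, hw]; rfl
  obtain ⟨g, hg⟩ := ψ.exists_leftInverse_of_injective (LinearMap.ker_eq_bot.2 hinj)
  let C : F → Matrix (Fin 4) (Fin 4) F := fun b => LinearMap.toMatrix'
    (g ∘ₗ (ρ (zS h b) ∘ₗ φv - φv ∘ₗ nat m ς (zS h b)))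
  have D : Defect h ρ ς ψ φv C := by
    refine ⟨fun u => ?_, fun t u => ?_, fun b u => ?_⟩
    · have w0 : ρ (wS h) (v 0) = v 3 := (hvw 0).symm
      have w1 : ρ (wS h) (v 1) = v 2 := (hvw 1).symm
      have w2 : ρ (wS h) (v 2) = v 1 := (hvw 2).symm
      have w3 : ρ (wS h) (v 3) = v 0 := (hvw 3).symm
      simp [hφv, nat_wS, map_sum, map_smul, Fin.sum_univ_four, w0, w1, w2, w3]
      abel
    · simp only [hφv, nat_tor, map_sum, map_smul, hvt, smul_smul, mul_comm]
      rfl
    · have hk : ρ (zS h b) (φv u) - φv (nat m ς (zS h b) u) ∈ LinearMap.range ψ := by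
        have hfu : ∀ x, f (φv x) = φ x := LinearMap.congr_fun hfv
        rw [hker, LinearMap.mem_ker, map_sub, hf, hfu, hfu, hφ, sub_self]
      obtain ⟨x, hx⟩ := hk
      have hC : C b *ᵥ u = x := by
        simp only [C, LinearMap.toMatrix'_mulVec, LinearMap.comp_apply, LinearMap.sub_apply]
        rw [← hx]
        exact LinearMap.congr_fun hg x
      rw [hC, hx]; abel
  obtain ⟨e, he⟩ : ∃ e : F ≃+* F, ∀ x, e x = ς x :=
    ⟨RingEquiv.ofBijective ς ⟨ς.injective, Finite.injective_iff_surjective.1 ς.injective⟩,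
      fun x => rfl⟩
  let s : F →+* F := (e.symm : F →+* F).comp σ
  have hs : ∀ x, ς (s x) = σ x := fun x => by rw [← he]; simp [s]
  -- first correction
  have hc32 := D.c32_eq_zero hψ hinj
  obtain ⟨r10, r00, r11, r01⟩ := D.rel hψ hinj
  set η := C 1 2 2 with hη
  set η' := C 1 3 3 with hη'
  let K : Matrix (Fin 4) (Fin 4) F := !![0, 0, η', 0; 0, 0, 0, η; η, 0, 0, 0; 0, η', 0, 0]
  have hfK : ∀ (φ₀ : (Fin 4 → F) →ₗ[F] E) (L : Matrix (Fin 4) (Fin 4) F), f ∘ₗ φ₀ = φ →
      f ∘ₗ (φ₀ + ψ ∘ₗ L.mulVecLin) = φ := fun φ₀ L h0 => by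
    refine LinearMap.ext fun u => ?_
    have : f (ψ (L *ᵥ u)) = 0 := by
      rw [← LinearMap.mem_ker, ← hker]; exact LinearMap.mem_range_self ψ _
    simp [← h0, this]
  have hKt : ∀ q p, K q p ≠ 0 → ∀ t : Fˣ, σ (wt h t q) = ς (wt h t p) := fun q p hK t => by
    rw [← hs]
    congr 1
    have ht0 : (t : F) ≠ 0 := t.ne_zero
    have hth : theta h (t : F) ≠ 0 := (map_ne_zero _).2 ht0
    fin_cases q <;> fin_cases p <;> simp [K] at hK ⊢
    · show s (wt h t 0) = wt h t 2
      obtain ⟨h1, h2⟩ := D.eta' hs hψ hinj hK (t : F)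
      simp [wt]
      rw [h1, eq_div_iff hth, h2]
    · show s (wt h t 1) = wt h t 3
      have S := fun y => (D.eta hs hψ hinj hK y).1
      simp [wt]
      rw [← map_div₀, S, div_mul_div_comm, (D.eta hs hψ hinj hK (t : F)).2]
      field_simp
    · show s (wt h t 2) = wt h t 0
      have S := fun y => (D.eta hs hψ hinj hK y).1
      simp [wt]
      rw [← map_div₀, S, div_mul_div_comm, (D.eta hs hψ hinj hK (t : F)).2,
        mul_div_cancel_right₀ _ ht0]
    · show s (wt h t 3) = wt h t 1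
      obtain ⟨h1, h2⟩ := D.eta' hs hψ hinj hK (t : F)
      simp [wt]
      rw [h1]
      field_simp
      linear_combination -h2
  have D1 := D.change hψ hinj K (fun q p => by fin_cases q <;> fin_cases p <;> simp [K, Fin.rev]) hKt
  set C1 := fun b => C b + ((mat (zS h b)).map σ * K + K * (mat (zS h b)).map ς) with hC1
  obtain ⟨s10, s00, s11, s01⟩ := D1.rel hψ hinj
  have t32 := D1.c32_eq_zero hψ hinj
  have t22 : C1 1 2 2 = 0 := by
    simp [hC1, Matrix.mul_apply, Matrix.vecMul, dotProduct, Fin.sum_univ_four, mat_zS, K, hη,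
      CharTwo.add_self_eq_zero]
  have t33 : C1 1 3 3 = 0 := by
    simp [hC1, Matrix.mul_apply, Matrix.vecMul, dotProduct, Fin.sum_univ_four, mat_zS, K, hη',
      CharTwo.add_self_eq_zero]
  rw [t32] at s10
  rw [t32, t22, add_zero] at s00
  rw [t32, t33, add_zero] at s11
  rw [t32, t22, t33, zero_add, add_zero, add_zero] at s01
  have t23 : C1 1 2 3 = 0 := by
    by_contra hne
    obtain ⟨T, hT⟩ := D1.endo_rel hψ hinj hs (q := 0) (p := 1) (by rwa [s01])
      (D1.add_diag hψ hinj 0 1 (Or.inr (by decide)))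
    obtain ⟨U, hU⟩ := D1.endo_rel hψ hinj hs hne (D1.add_diag hψ hinj 2 3 (Or.inl (by decide)))
    rcases pair_eq (α := T) (β := theta h) (γ := s) (δ := RingHom.id F) (fun x => by
      by_cases hx : x = 0
      · simp [hx]
      have e := hT x hx
      simp [wt] at e
      field_simp at e
      rw [RingHom.id_apply]; linear_combination e) with ⟨-, e'⟩ | ⟨-, e'⟩
    · exact theta_ne_id h e'
    · obtain ⟨a', b'⟩ := eq_of_eq_mul (α := U) (β := RingHom.id F) (γ := theta h) fun x => by
        by_cases hx : x = 0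
        · simp [hx]
        have e := hU x hx
        simp [wt, ← e', theta_theta] at e
        field_simp at e
        rw [RingHom.id_apply]
        linear_combination -e
      exact theta_ne_sq h fun x => by simpa [a'] using b' x
  have hadd1 := D1.add_all hψ hinj s00 (by rw [s01, t23]) s10 s11 t22 t23 t32 t33
  obtain ⟨r03, r02⟩ := D1.five_rel hψ hinj
  have t03 : C1 1 0 3 = 0 := by
    by_contra hne
    obtain ⟨T, hT⟩ := D1.endo_rel hψ hinj hs hne (hadd1 0 3)
    obtain ⟨U, hU⟩ := D1.endo_rel hψ hinj hs (q := 1) (p := 2) (r03 ▸ hne) (hadd1 1 2)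
    obtain ⟨a', -⟩ := eq_of_eq_mul (α := s) (β := RingHom.id F) (γ := T) fun x => by
      by_cases hx : x = 0
      · simp [hx]
      have e := hT x hx
      simp [wt] at e
      field_simp at e
      rw [RingHom.id_apply]; linear_combination e
    obtain ⟨a'', b''⟩ := eq_of_eq_mul (α := U) (β := frobenius F 2)
      (γ := (frobenius F 2).comp (theta h)) fun x => by
      by_cases hx : x = 0
      · simp [hx]
      have e := hU x hx
      simp [wt, a'] at e
      field_simp [(map_ne_zero (theta h)).2 hx] at e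
      rw [RingHom.comp_apply, frobenius_def, frobenius_def]; linear_combination -e
    refine theta_ne_sq h fun x => h.pow_sq_inj ?_
    have := b'' x
    rw [RingHom.comp_apply, frobenius_def, a'', frobenius_def] at this
    linear_combination this
  rw [r03] at t03
  rw [t03, add_zero] at r02
  -- second correction
  set x := C1 1 0 2 with hx'
  let K2 : Matrix (Fin 4) (Fin 4) F := !![x, 0, 0, 0; 0, 0, 0, 0; 0, 0, 0, 0; 0, 0, 0, x]
  have hK2t : ∀ q p, K2 q p ≠ 0 → ∀ t : Fˣ, σ (wt h t q) = ς (wt h t p) := fun q p hK t => by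
    rw [← hs]
    congr 1
    fin_cases q <;> fin_cases p <;> simp [K2] at hK ⊢
    all_goals
      obtain ⟨T, hT⟩ := D1.endo_rel hψ hinj hs hK (hadd1 0 2)
      rcases pair_eq (α := T) (β := RingHom.id F) (γ := s) (δ := theta h) (fun y => by
        by_cases hy0 : y = 0
        · simp [hy0]
        have e := hT y hy0
        simp [wt] at e
        field_simp [(map_ne_zero (theta h)).2 hy0] at e
        rw [RingHom.id_apply]; linear_combination e) with ⟨-, e'⟩ | ⟨-, e'⟩
      · exact absurd e'.symm (theta_ne_id h)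
      · rw [← e']; rfl
  have D2 := D1.change hψ hinj K2
    (fun q p => by fin_cases q <;> fin_cases p <;> simp [K2, Fin.rev]) hK2t
  have hfin := hfK _ K2 (hfK φv K hfv)
  set φ' := φv + ψ ∘ₗ K.mulVecLin + ψ ∘ₗ K2.mulVecLin
  set C2 := fun b => C1 b + ((mat (zS h b)).map σ * K2 + K2 * (mat (zS h b)).map ς) with hC2
  obtain ⟨l20, l21, l30, l31⟩ := D1.lower hψ hinj
  have hzero : ∀ q p, C2 1 q p = 0 := by
    intro q p
    have r13 : C1 1 1 3 = x := CharTwo.add_eq_zero.1 (by rw [add_comm]; exact r02)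
    fin_cases q <;> fin_cases p <;>
      simp [hC2, Matrix.add_apply, Matrix.mul_apply, Matrix.vecMul, dotProduct, Fin.sum_univ_four,
        CharTwo.add_self_eq_zero, mat_zS, K2, s00, s10, s11,
        s01, t22, t23, t32, t33, l20, l21, l30, l31, r03, t03, r13, ← hx']
  refine ⟨φ', equivariant_of_gen h (nat m ς) ρ φ' D2.w fun b u => ?_, hfin⟩
  have hCb : C2 b = 0 := by
    ext q p; exact D2.zero_of_one hψ hinj (hzero q p) b
  rw [D2.z, hCb, Matrix.zero_mulVec, map_zero, add_zero]

end CfsgLib.SzFpf
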