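import Cfsg.Agent.Lib.SzFpf.Irred
import Cfsg.Agent.Lib.SzFpf.Ext

/-!
A representation of a Suzuki group in characteristic two on which the elements of order five act
without fixed vectors is spanned by twisted natural subrepresentations.
-/

set_option autoImplicit false
set_option linter.unusedSectionVars false

namespace CfsgLib.SzFpf

open CfsgLib.Suzuki

universe u v

variable {F : Type u} [Field F] [Fintype F] [DecidableEq F] [CharP F 2] {m : ℕ}

section
variable {E : Type*} [AddCommGroup E] [Module F E]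

theorem fpf5_subrepresentation {ρ : Representation F (Cfsg.Sz F m) E} (hfpf : Fpf5 ρ)
    (W : Submodule F E) (hW : ∀ g, W ≤ W.comap (ρ g)) : Fpf5 (ρ.subrepresentation W hW) :=
  fun g hg hg1 w hw => Subtype.ext (hfpf g hg hg1 _ (congrArg Subtype.val hw))

theorem fpf5_quotient {ρ : Representation F (Cfsg.Sz F m) E} (hfpf : Fpf5 ρ)
    (W : Submodule F E) (hW : ∀ g, W ≤ W.comap (ρ g)) : Fpf5 (ρ.quotient W hW) := by
  intro g hg hg1 q hq
  obtain ⟨e, rfl⟩ := Submodule.mkQ_surjective W q
  have hstep : W.mkQ (ρ g e) = W.mkQ e := hq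
  have hpow : ∀ i : ℕ, W.mkQ ((ρ g ^ i) e) = W.mkQ e := fun i => by
    induction i with
    | zero => simp
    | succ i ih =>
      rw [pow_succ', Module.End.mul_apply]
      calc W.mkQ (ρ g ((ρ g ^ i) e)) = ρ.quotient W hW g (W.mkQ ((ρ g ^ i) e)) := rfl
        _ = W.mkQ e := by rw [ih]; exact hq
  have h5 : (ρ g ^ 5) e = e := by rw [← map_pow, hg, map_one, Module.End.one_apply]
  let s := e + (ρ g ^ 1) e + (ρ g ^ 2) e + (ρ g ^ 3) e + (ρ g ^ 4) e
  have hs : ρ g s = s := by
    have hn : ∀ i : ℕ, ρ g ((ρ g ^ i) e) = (ρ g ^ (i + 1)) e := fun i => by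
      rw [pow_succ', Module.End.mul_apply]
    have h0 : ρ g e = (ρ g ^ 1) e := by rw [pow_one]
    simp only [s, map_add, hn, h0]
    norm_num
    rw [h5]
    abel
  have hs0 := congrArg W.mkQ (hfpf g hg hg1 s hs)
  simp only [s, map_add, hpow, map_zero] at hs0
  have h2 : W.mkQ e + W.mkQ e = 0 := by
    rw [← two_smul F, show (2 : F) = 0 from CharTwo.two_eq_zero, zero_smul]
  rw [h2, zero_add, h2, zero_add] at hs0
  exact hs0

variable (h : SzHyp F m)
include h

theorem dual_fpf5 [FiniteDimensional F E] (ρ : Representation F (Cfsg.Sz F m) E) (hfpf : Fpf5 ρ) :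
    Fpf5 ρ.dual := by
  intro g hg hg1 f hf
  have hinj : Function.Injective (ρ g⁻¹ - 1 : E →ₗ[F] E) := by
    refine (injective_iff_map_eq_zero _).2 fun e he => ?_
    refine hfpf g⁻¹ (by rw [inv_pow, hg, inv_one]) (inv_ne_one.2 hg1) e ?_
    exact sub_eq_zero.1 he
  refine LinearMap.ext fun e => ?_
  obtain ⟨d, rfl⟩ := LinearMap.surjective_of_injective hinj e
  have hd : f (ρ g⁻¹ d) = f d := LinearMap.congr_fun hf d
  simp [hd]

end

theorem natSpan_eq_top_aux (h : SzHyp F m) : ∀ (n : ℕ) {E : Type v} [AddCommGroup E] [Module F E]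
    [FiniteDimensional F E] (ρ : Representation F (Cfsg.Sz F m) E), Module.finrank F E = n →
    Fpf5 ρ → natSpan ρ = ⊤ := by
  intro n
  induction n using Nat.strong_induction_on with
  | _ n ih =>
    intro E _ _ _ ρ hn hfpf
    by_cases hE : Subsingleton E
    · exact Subsingleton.elim _ _
    have : Nontrivial E := not_subsingleton_iff_nontrivial.1 hE
    obtain ⟨W, ⟨hW, hW0⟩, hmin⟩ := wellFounded_lt.has_min
      {W : Submodule F E | (∀ g, W ≤ W.comap (ρ g)) ∧ W ≠ ⊥}
      ⟨⊤, fun g => le_top.trans (by simp), top_ne_bot⟩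
    have : Nontrivial W := Submodule.nontrivial_iff_ne_bot.2 hW0
    obtain ⟨σ, ψ₀, hψ₀, hbij⟩ := exists_natMap h (ρ.subrepresentation W hW)
      (fpf5_subrepresentation hfpf W hW) (by
        intro U hU
        by_cases hU0 : U = ⊥
        · exact Or.inl hU0
        refine Or.inr ?_
        have hinv : ∀ g, U.map W.subtype ≤ (U.map W.subtype).comap (ρ g) := by
          rintro g _ ⟨u, hu, rfl⟩
          exact ⟨ρ.subrepresentation W hW g u, hU g u hu, rfl⟩
        have hne : U.map W.subtype ≠ ⊥ :=
          fun h0 => hU0 (Submodule.map_injective_of_injective W.subtype_injective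
            (h0.trans (Submodule.map_bot _).symm))
        have hnlt := hmin (U.map W.subtype) ⟨hinv, hne⟩
        have heq : U.map W.subtype = W :=
          (Submodule.map_subtype_le W U).lt_or_eq.resolve_left hnlt
        refine eq_top_iff.2 fun u _ => ?_
        obtain ⟨u', hu', huu⟩ := (heq.symm ▸ u.2 : (u : E) ∈ U.map W.subtype)
        rwa [← Subtype.ext (show (u' : E) = (u : E) from huu)])
    have hψ : IsNatMap ρ σ (W.subtype ∘ₗ ψ₀) := fun g u => congrArg Subtype.val (hψ₀ g u)
    have hrange : LinearMap.range (W.subtype ∘ₗ ψ₀) = W := by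
      rw [LinearMap.range_comp, LinearMap.range_eq_top.2 hbij.2, Submodule.map_top,
        Submodule.range_subtype]
    have hlt : Module.finrank F (E ⧸ W) < n := by
      have h1 := W.finrank_quotient_add_finrank
      have h2 : 0 < Module.finrank F W := Module.finrank_pos
      omega
    have hQ := ih _ hlt (ρ.quotient W hW) rfl (fpf5_quotient hfpf W hW)
    have hmap : natSpan (ρ.quotient W hW) ≤ (natSpan ρ).map W.mkQ := by
      refine iSup_le fun ς => iSup_le fun φ => iSup_le fun hφ => ?_
      obtain ⟨φ', hφ', hcomp⟩ := exists_lift h ρ (ρ.quotient W hW) W.mkQ (fun g e => rfl)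
        (Submodule.mkQ_surjective W) σ (W.subtype ∘ₗ ψ₀) hψ
        (W.subtype_injective.comp hbij.1) (by rw [hrange, Submodule.ker_mkQ]) ς φ hφ
      rw [← hcomp, LinearMap.range_comp]
      exact Submodule.map_mono (range_le_natSpan hφ')
    have hle : W ≤ natSpan ρ := hrange ▸ range_le_natSpan hψ
    rw [hQ, top_le_iff] at hmap
    have := congrArg (Submodule.comap W.mkQ) hmap
    rwa [Submodule.comap_map_mkQ, sup_eq_right.2 hle, Submodule.comap_top] at this

/-- A representation on which the elements of order five act without fixed vectors is spanned by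
twisted natural subrepresentations. -/
theorem natSpan_eq_top (h : SzHyp F m) {E : Type*} [AddCommGroup E] [Module F E]
    [FiniteDimensional F E] (ρ : Representation F (Cfsg.Sz F m) E) (hfpf : Fpf5 ρ) :
    natSpan ρ = ⊤ :=
  natSpan_eq_top_aux h _ ρ rfl hfpf

end CfsgLib.SzFpf
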