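import Mathlib
import Cfsg.Agent.Lib.SzFpf.Basic

/-!
There is no non-zero invariant trilinear form on three twisted natural representations of a
Suzuki group.
-/

set_option autoImplicit false
set_option linter.unusedSectionVars false

namespace CfsgLib.SzFpf

open CfsgLib.Suzuki Matrix

variable {F : Type*} [Field F] [Fintype F] [DecidableEq F] [CharP F 2] {m : ℕ}

/-- The standard basis vectors. -/
abbrev bas (p : Fin 4) : Fin 4 → F := Pi.single p 1

theorem two_coeff {α β : F →+* F} (hne : α ≠ β) {c d : F}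
    (h : ∀ b, α b * c + β b * d = 0) : c = 0 ∧ d = 0 := by
  have hcd : d = c := by
    have := h 1
    rw [map_one, map_one, one_mul, one_mul] at this
    exact (CharTwo.add_eq_zero.1 this).symm
  obtain ⟨b, hb⟩ : ∃ b, α b ≠ β b := by
    by_contra hc; push Not at hc; exact hne (RingHom.ext hc)
  have hb' := h b
  rw [hcd, ← add_mul] at hb'
  rcases mul_eq_zero.1 hb' with h1 | h1
  · exact absurd (CharTwo.add_eq_zero.1 h1) hb
  · exact ⟨h1, hcd.trans h1⟩

theorem rev_low {p : Fin 4} : (Fin.rev p < 2 ↔ 2 ≤ p) ∧ (2 ≤ Fin.rev p ↔ p < 2) := by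
  revert p; decide

variable (h : SzHyp F m)
include h

theorem nat_zS_low (σ : F →+* F) (b : F) {x : Fin 4} (hx : x < 2) :
    nat m σ (zS h b) (bas x) = bas x := by
  rw [nat_zS h]
  fin_cases x <;> simp at hx <;> ext i <;> fin_cases i <;> simp [bas]

theorem nat_zS_two (σ : F →+* F) (b : F) :
    nat m σ (zS h b) (bas 2) = bas 2 + σ b • bas 0 := by
  rw [nat_zS h]
  ext i
  fin_cases i <;> simp [bas]

theorem nat_zS_three (σ : F →+* F) (b : F) :
    nat m σ (zS h b) (bas 3) = bas 3 + (σ (theta h b) • bas 0 + σ b • bas 1) := by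
  rw [nat_zS h]
  ext i
  fin_cases i <;> simp [bas]

theorem nat_wS_bas (σ : F →+* F) (p : Fin 4) :
    nat m σ (wS h) (bas p) = bas (Fin.rev p) := by
  rw [nat_wS h]
  fin_cases p <;> ext i <;> fin_cases i <;> simp [bas, Fin.rev]

theorem nat_tor_bas (σ : F →+* F) (v : Fˣ) (p : Fin 4) :
    nat m σ (tor h v) (bas p) = σ (wt h v p) • bas p := by
  rw [nat_tor h]
  ext i
  by_cases hi : i = p
  · subst hi; simp [bas]
  · simp [bas, hi]

/-- `θ` does not commute with the weights in the two ways that would be needed for an invariant. -/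
theorem weight_ne_one {x : Fin 4} (hx : x < 2) :
    (¬ ∀ v : Fˣ, wt h v 0 * wt h v 3 * wt h v x = 1) ∧
      ¬ ∀ v : Fˣ, wt h v 1 * wt h v 3 * wt h v x = 1 := by
  have hθ : ∀ v : Fˣ, (theta h (v : F)) ≠ 0 := fun v e =>
    v.ne_zero ((theta h).injective (by rw [e, map_zero]))
  have hfix : ¬ ∀ v : Fˣ, theta h (v : F) = v := by
    intro e
    refine theta_ne_id h (RingHom.ext fun y => ?_)
    by_cases hy : y = 0
    · simp [hy]
    · simpa using e (Units.mk0 y hy)
  obtain ⟨y, hy0, hy1⟩ := h.exists_ne_zero_one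
  have hx' : x = 0 ∨ x = 1 := by fin_cases x <;> simp at hx ⊢
  rcases hx' with rfl | rfl
  · refine ⟨fun e => hy1 ?_, fun e => hfix fun v => ?_⟩
    · simpa [wt, hy0] using e (Units.mk0 y hy0)
    · have := e v
      have hv := v.ne_zero
      simp [wt] at this
      field_simp at this
      exact this
  · refine ⟨fun e => hfix fun v => ?_, fun e => ?_⟩
    · have := e v
      have hv := v.ne_zero
      simp [wt] at this
      field_simp at this
      exact this
    · have key : ∀ z : F, theta h z * theta h z = z * z * z := fun z => by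
        by_cases hz : z = 0
        · simp [hz]
        · have := e (Units.mk0 z hz)
          simp [wt] at this
          field_simp at this
          linear_combination this
      have h1 := key (y + 1)
      rw [map_add, map_one] at h1
      have h2 : y * (y + 1) = 0 := by
        have h3 : (2 : F) = 0 := CharTwo.two_eq_zero
        linear_combination h1 - key y - (theta h y - 2 * y ^ 2 - 2 * y) * h3
      rcases mul_eq_zero.1 h2 with h3 | h3
      · exact hy0 h3
      · exact hy1 (CharTwo.add_eq_zero.1 h3)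

/-- An invariant trilinear form vanishes on basis vectors two of which, in slots that are
not twisted alike or are all twisted alike, differ in height. -/
theorem trilinear_slot (σ₁ σ₂ σ₃ : F →+* F)
    (τ : (Fin 4 → F) →ₗ[F] (Fin 4 → F) →ₗ[F] (Fin 4 → F) →ₗ[F] F)
    (hτ : ∀ g a b c, τ (nat m σ₁ g a) (nat m σ₂ g b) (nat m σ₃ g c) = τ a b c)
    (hcase : σ₁ ≠ σ₂ ∨ σ₃ = σ₁) :
    (∀ p q r : Fin 4, p < 2 → q < 2 → r < 2 → τ (bas p) (bas q) (bas r) = 0) ∧
      ∀ p q r : Fin 4, p < 2 → 2 ≤ q →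
        τ (bas p) (bas q) (bas r) = 0 ∧ τ (bas q) (bas p) (bas r) = 0 := by
  set t : Fin 4 → Fin 4 → Fin 4 → F := fun p q r => τ (bas p) (bas q) (bas r) with ht
  have h0 : ∀ x y : Fin 4, x < 2 → y < 2 → t 0 x y = 0 := fun x y hx hy => by
    have e := hτ (zS h 1) (bas 2) (bas x) (bas y)
    rw [nat_zS_two h, nat_zS_low h _ _ hx, nat_zS_low h _ _ hy] at e
    simpa [ht] using e
  have h1 : ∀ x y : Fin 4, x < 2 → y < 2 → t 1 x y = 0 := fun x y hx hy => by
    have e := hτ (zS h 1) (bas 3) (bas x) (bas y)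
    rw [nat_zS_three h, nat_zS_low h _ _ hx, nat_zS_low h _ _ hy] at e
    have := h0 x y hx hy
    simp [ht] at e this ⊢
    rwa [this, zero_add] at e
  have lll : ∀ p q r : Fin 4, p < 2 → q < 2 → r < 2 → t p q r = 0 := fun p q r hp hq hr => by
    fin_cases p <;> simp at hp
    exacts [h0 q r hq hr, h1 q r hq hr]
  refine ⟨lll, ?_⟩
  -- the slot `3` is low
  have low : ∀ x : Fin 4, x < 2 →
      t 0 2 x = 0 ∧ t 2 0 x = 0 ∧ t 0 3 x = 0 ∧ t 3 0 x = 0 ∧
      t 1 2 x = 0 ∧ t 2 1 x = 0 ∧ t 1 3 x = 0 ∧ t 3 1 x = 0 := by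
    intro x hx
    have l00 := lll 0 0 x (by decide) (by decide) hx
    have l01 := lll 0 1 x (by decide) (by decide) hx
    have l10 := lll 1 0 x (by decide) (by decide) hx
    have l11 := lll 1 1 x (by decide) (by decide) hx
    simp only [ht] at l00 l01 l10 l11
    have e22 : ∀ b, σ₁ b * t 0 2 x + σ₂ b * t 2 0 x = 0 := fun b => by
      have e := hτ (zS h b) (bas 2) (bas 2) (bas x)
      rw [nat_zS_two h, nat_zS_two h, nat_zS_low h _ _ hx] at e
      simp only [map_add, map_smul, LinearMap.add_apply, LinearMap.smul_apply, smul_eq_mul,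
        l00, mul_zero] at e
      simp only [ht]
      linear_combination e
    have e23 : ∀ b, σ₁ b * t 0 3 x + σ₂ (theta h b) * t 2 0 x + σ₂ b * t 2 1 x = 0 := fun b => by
      have e := hτ (zS h b) (bas 2) (bas 3) (bas x)
      rw [nat_zS_two h, nat_zS_three h, nat_zS_low h _ _ hx] at e
      simp only [map_add, map_smul, LinearMap.add_apply, LinearMap.smul_apply, smul_eq_mul,
        l00, l01, mul_zero, add_zero] at e
      simp only [ht]
      linear_combination e
    have e32 : ∀ b, σ₁ (theta h b) * t 0 2 x + σ₁ b * t 1 2 x + σ₂ b * t 3 0 x = 0 := fun b => by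
      have e := hτ (zS h b) (bas 3) (bas 2) (bas x)
      rw [nat_zS_two h, nat_zS_three h, nat_zS_low h _ _ hx] at e
      simp only [map_add, map_smul, LinearMap.add_apply, LinearMap.smul_apply, smul_eq_mul,
        l00, l10, mul_zero, add_zero] at e
      simp only [ht]
      linear_combination e
    have e33 : ∀ b, σ₁ (theta h b) * t 0 3 x + σ₁ b * t 1 3 x + σ₂ (theta h b) * t 3 0 x +
        σ₂ b * t 3 1 x = 0 := fun b => by
      have e := hτ (zS h b) (bas 3) (bas 3) (bas x)
      rw [nat_zS_three h, nat_zS_three h, nat_zS_low h _ _ hx] at e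
      simp only [map_add, map_smul, LinearMap.add_apply, LinearMap.smul_apply, smul_eq_mul,
        l00, l01, l10, l11, mul_zero, add_zero] at e
      simp only [ht]
      linear_combination e
    by_cases hne : σ₁ = σ₂
    · -- all three slots are twisted alike
      have h31 : σ₃ = σ₁ := hcase.resolve_left (not_not.2 hne)
      subst hne
      subst h31
      have hne' : σ₃.comp (theta h) ≠ σ₃ := fun e => theta_ne_id h
        (RingHom.ext fun y => σ₃.injective (by simpa using DFunLike.congr_fun e y))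
      have a := two_coeff hne' (c := t 2 0 x) (d := t 0 3 x + t 2 1 x)
        (fun b => by simp only [RingHom.comp_apply]; linear_combination e23 b)
      have a02 : t 0 2 x = 0 := by
        have := e22 1
        rwa [map_one, one_mul, one_mul, a.1, add_zero] at this
      have b' := two_coeff hne' (c := t 0 2 x) (d := t 1 2 x + t 3 0 x)
        (fun b => by simp only [RingHom.comp_apply]; linear_combination e32 b)
      have c' := two_coeff hne' (c := t 0 3 x + t 3 0 x) (d := t 1 3 x + t 3 1 x)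
        (fun b => by simp only [RingHom.comp_apply]; linear_combination e33 b)
      have tw : ∀ p q : Fin 4, ∀ v : Fˣ, σ₃ (wt h v p * wt h v q * wt h v x) * t p q x = t p q x :=
        fun p q v => by
          have e := hτ (tor h v) (bas p) (bas q) (bas x)
          rw [nat_tor_bas h, nat_tor_bas h, nat_tor_bas h] at e
          simp only [map_smul, LinearMap.smul_apply, smul_eq_mul] at e
          simp only [ht]
          rw [map_mul, map_mul]
          linear_combination e
      have kill : ∀ p q : Fin 4, (¬ ∀ v : Fˣ, wt h v p * wt h v q * wt h v x = 1) →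
          t p q x = 0 := fun p q hpq => by
        by_contra hz
        exact hpq fun v => σ₃.injective ((mul_eq_right₀ hz).1 (tw p q v) |>.trans (map_one σ₃).symm)
      have a03 := kill 0 3 (weight_ne_one h hx).1
      have a13 := kill 1 3 (weight_ne_one h hx).2
      have a30 : t 3 0 x = 0 := by have := c'.1; rwa [a03, zero_add] at this
      have a31 : t 3 1 x = 0 := by have := c'.2; rwa [a13, zero_add] at this
      have a12 : t 1 2 x = 0 := by have := b'.2; rwa [a30, add_zero] at this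
      have a21 : t 2 1 x = 0 := by have := a.2; rwa [a03, zero_add] at this
      exact ⟨a02, a.1, a03, a30, a12, a21, a13, a31⟩
    · have a := two_coeff hne e22
      have b' := two_coeff hne (c := t 0 3 x) (d := t 2 1 x) fun b => by
        have := e23 b; rwa [a.2, mul_zero, add_zero] at this
      have c' := two_coeff hne (c := t 1 2 x) (d := t 3 0 x) fun b => by
        have := e32 b; rwa [a.1, mul_zero, zero_add] at this
      have d' := two_coeff hne (c := t 1 3 x) (d := t 3 1 x) fun b => by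
        have := e33 b; rwa [b'.1, c'.2, mul_zero, mul_zero, zero_add, add_zero] at this
      exact ⟨a.1, a.2, b'.1, c'.2, c'.1, b'.2, d'.1, d'.2⟩
  have lowpq : ∀ p q r : Fin 4, p < 2 → 2 ≤ q → r < 2 → t p q r = 0 ∧ t q p r = 0 := by
    intro p q r hp hq hr
    obtain ⟨a, b, c, d, e, f, g, k⟩ := low r hr
    fin_cases p <;> simp at hp <;> fin_cases q <;> simp at hq
    exacts [⟨a, b⟩, ⟨c, d⟩, ⟨e, f⟩, ⟨g, k⟩]
  intro p q r hp hq
  by_cases hr : r < 2
  · exact lowpq p q r hp hq hr
  · have hrev : ∀ a b c : Fin 4, t (Fin.rev a) (Fin.rev b) (Fin.rev c) = t a b c := fun a b c => by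
      have e := hτ (wS h) (bas a) (bas b) (bas c)
      rwa [nat_wS_bas h, nat_wS_bas h, nat_wS_bas h] at e
    have hp' : 2 ≤ Fin.rev p ∧ Fin.rev q < 2 ∧ Fin.rev r < 2 :=
      ⟨rev_low.2.2 hp, rev_low.1.2 hq, rev_low.1.2 (not_lt.1 hr)⟩
    obtain ⟨h3, h4⟩ := lowpq (Fin.rev q) (Fin.rev p) (Fin.rev r) hp'.2.1 hp'.1 hp'.2.2
    rw [hrev] at h3 h4
    exact ⟨h4, h3⟩

omit h in
/-- Exchange of the last two slots. -/
def swap23 (τ : (Fin 4 → F) →ₗ[F] (Fin 4 → F) →ₗ[F] (Fin 4 → F) →ₗ[F] F) :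
    (Fin 4 → F) →ₗ[F] (Fin 4 → F) →ₗ[F] (Fin 4 → F) →ₗ[F] F where
  toFun a := (τ a).flip
  map_add' a b := by ext; simp
  map_smul' c a := by ext; simp

/-- There is no non-zero invariant trilinear form. -/
theorem trilinear_eq_zero (σ₁ σ₂ σ₃ : F →+* F)
    (τ : (Fin 4 → F) →ₗ[F] (Fin 4 → F) →ₗ[F] (Fin 4 → F) →ₗ[F] F)
    (hτ : ∀ g a b c, τ (nat m σ₁ g a) (nat m σ₂ g b) (nat m σ₃ g c) = τ a b c) : τ = 0 := by
  set t : Fin 4 → Fin 4 → Fin 4 → F := fun p q r => τ (bas p) (bas q) (bas r) with ht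
  have h13 : ∀ g a b c, swap23 τ (nat m σ₁ g a) (nat m σ₃ g b) (nat m σ₂ g c) =
      swap23 τ a b c := fun g a b c => hτ g a c b
  have h23 : ∀ g a b c, swap23 τ.flip (nat m σ₂ g a) (nat m σ₃ g b) (nat m σ₁ g c) =
      swap23 τ.flip a b c := fun g a b c => hτ g c a b
  -- each mixed pattern differs in two pairs of slots
  have c12 : (σ₁ ≠ σ₂ ∨ σ₃ = σ₁) → ∀ p q r : Fin 4, p < 2 → 2 ≤ q → t p q r = 0 ∧ t q p r = 0 :=
    fun hc p q r hp hq => (trilinear_slot h σ₁ σ₂ σ₃ τ hτ hc).2 p q r hp hq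
  have c13 : (σ₁ ≠ σ₃ ∨ σ₂ = σ₁) → ∀ p q r : Fin 4, p < 2 → 2 ≤ r → t p q r = 0 ∧ t r q p = 0 :=
    fun hc p q r hp hr => (trilinear_slot h σ₁ σ₃ σ₂ _ h13 hc).2 p r q hp hr
  have c23 : (σ₂ ≠ σ₃ ∨ σ₁ = σ₂) → ∀ p q r : Fin 4, q < 2 → 2 ≤ r → t p q r = 0 ∧ t p r q = 0 :=
    fun hc p q r hq hr => (trilinear_slot h σ₂ σ₃ σ₁ _ h23 hc).2 q r p hq hr
  have hz : ∀ p q r : Fin 4, t p q r = 0 := by
    have k12 : (σ₁ ≠ σ₂ ∨ σ₃ = σ₁) ∨ (σ₁ ≠ σ₃ ∨ σ₂ = σ₁) := by
      by_cases e : σ₁ = σ₂
      · exact Or.inr (Or.inr e.symm)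
      · exact Or.inl (Or.inl e)
    have k13 : (σ₁ ≠ σ₂ ∨ σ₃ = σ₁) ∨ (σ₂ ≠ σ₃ ∨ σ₁ = σ₂) := by
      by_cases e : σ₁ = σ₂
      · exact Or.inr (Or.inr e)
      · exact Or.inl (Or.inl e)
    have k23 : (σ₁ ≠ σ₃ ∨ σ₂ = σ₁) ∨ (σ₂ ≠ σ₃ ∨ σ₁ = σ₂) := by
      by_cases e : σ₁ = σ₂
      · exact Or.inl (Or.inr e.symm)
      · by_cases e' : σ₁ = σ₃
        · exact Or.inr (Or.inl fun e'' => e (e'.trans e''.symm))
        · exact Or.inl (Or.inl e')
    have hl : ∀ p q r : Fin 4, p < 2 → q < 2 → r < 2 → t p q r = 0 := fun p q r hp hq hr => by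
      by_cases e : σ₁ ≠ σ₂ ∨ σ₃ = σ₁
      · exact (trilinear_slot h σ₁ σ₂ σ₃ τ hτ e).1 p q r hp hq hr
      · exact (trilinear_slot h σ₁ σ₃ σ₂ _ h13 (k12.resolve_left e)).1 p r q hp hr hq
    have hrev : ∀ a b c : Fin 4, t (Fin.rev a) (Fin.rev b) (Fin.rev c) = t a b c := fun a b c => by
      have e := hτ (wS h) (bas a) (bas b) (bas c)
      rwa [nat_wS_bas h, nat_wS_bas h, nat_wS_bas h] at e
    intro p q r
    rcases lt_or_ge p 2 with hp | hp <;> rcases lt_or_ge q 2 with hq | hq <;>
      rcases lt_or_ge r 2 with hr | hr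
    · exact hl p q r hp hq hr
    · rcases k23 with k | k
      · exact (c13 k p q r hp hr).1
      · exact (c23 k p q r hq hr).1
    · rcases k13 with k | k
      · exact (c12 k p q r hp hq).1
      · exact (c23 k p r q hr hq).2
    · rcases k12 with k | k
      · exact (c12 k p q r hp hq).1
      · exact (c13 k p q r hp hr).1
    · rcases k12 with k | k
      · exact (c12 k q p r hq hp).2
      · exact (c13 k r q p hr hp).2
    · rcases k13 with k | k
      · exact (c12 k q p r hq hp).2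
      · exact (c23 k p q r hq hr).1
    · rcases k23 with k | k
      · exact (c13 k r q p hr hp).2
      · exact (c23 k p r q hr hq).2
    · rw [← hrev]; exact hl _ _ _ (rev_low.1.2 hp) (rev_low.1.2 hq) (rev_low.1.2 hr)
  ext p q r
  simpa [ht] using hz p q r

end CfsgLib.SzFpf
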