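import Cfsg.Agent.Lib.SzFpf.Basic
import Cfsg.Agent.Lib.SzFpf.Descend
import Cfsg.Agent.Lib.SzFpf.Semisimple
import Cfsg.Agent.Lib.SzFpf.Trilinear

/-!
No nonzero invariant bilinear map between modules on which the elements of order five act without
fixed vectors.
-/

set_option autoImplicit false
set_option linter.unusedSectionVars false

namespace CfsgLib.SzFpf

open CfsgLib.Suzuki TensorProduct

variable {F : Type*} [Field F] [Fintype F] [DecidableEq F] [CharP F 2] {m : ℕ}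

theorem natSpan_le {E : Type*} [AddCommGroup E] [Module F E] {ρ : Representation F (Cfsg.Sz F m) E}
    {W : Submodule F E} (hW : ∀ σ φ, IsNatMap ρ σ φ → LinearMap.range φ ≤ W) : natSpan ρ ≤ W :=
  iSup_le fun σ => iSup_le fun φ => iSup_le fun hφ => hW σ φ hφ

/-- An invariant bilinear map vanishes on modules spanned by twisted natural images with such a dual. -/
theorem bilinear_eq_zero_of_span {E1 E2 E3 : Type*} [AddCommGroup E1] [Module F E1] [AddCommGroup E2]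
    [Module F E2] [AddCommGroup E3] [Module F E3]
    (ρ1 : Representation F (Cfsg.Sz F m) E1) (ρ2 : Representation F (Cfsg.Sz F m) E2)
    (ρ3 : Representation F (Cfsg.Sz F m) E3)
    (s1 : natSpan ρ1 = ⊤) (s2 : natSpan ρ2 = ⊤) (s3 : natSpan ρ3.dual = ⊤)
    (tri : ∀ (σ₁ σ₂ σ₃ : F →+* F) (τ : (Fin 4 → F) →ₗ[F] (Fin 4 → F) →ₗ[F] (Fin 4 → F) →ₗ[F] F),
      (∀ g a b c, τ (nat m σ₁ g a) (nat m σ₂ g b) (nat m σ₃ g c) = τ a b c) → τ = 0)
    (β : E1 →ₗ[F] E2 →ₗ[F] E3) (hβ : ∀ g a b, β (ρ1 g a) (ρ2 g b) = ρ3 g (β a b)) : β = 0 := by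
  refine LinearMap.ker_eq_top.1 (top_le_iff.1 (s1.symm.le.trans (natSpan_le fun σ₁ φ₁ h₁ => ?_)))
  rintro _ ⟨a, rfl⟩
  rw [LinearMap.mem_ker]
  refine LinearMap.ker_eq_top.1 (top_le_iff.1 (s2.symm.le.trans (natSpan_le fun σ₂ φ₂ h₂ => ?_)))
  rintro _ ⟨b, rfl⟩
  rw [LinearMap.mem_ker]
  refine (Module.forall_dual_apply_eq_zero_iff F _).1 fun f => ?_
  have hf : (⊤ : Submodule F (Module.Dual F E3)) ≤
      LinearMap.ker (Module.Dual.eval F E3 (β (φ₁ a) (φ₂ b))) := by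
    refine s3.symm.le.trans (natSpan_le fun σ₃ φ₃ h₃ => ?_)
    rintro _ ⟨c, rfl⟩
    rw [LinearMap.mem_ker, Module.Dual.eval_apply]
    let τ : (Fin 4 → F) →ₗ[F] (Fin 4 → F) →ₗ[F] (Fin 4 → F) →ₗ[F] F :=
      (β.compl₁₂ φ₁ φ₂).compr₂ φ₃.flip
    have hτ : τ = 0 := tri σ₁ σ₂ σ₃ τ fun g x y z => by
      show φ₃ (nat m σ₃ g z) (β (φ₁ (nat m σ₁ g x)) (φ₂ (nat m σ₂ g y))) = φ₃ z (β (φ₁ x) (φ₂ y))
      rw [h₁, h₂, h₃, hβ, Representation.dual_apply, Module.Dual.transpose_apply, LinearMap.comp_apply,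
        ← Module.End.mul_apply, ← map_mul, inv_mul_cancel, map_one, Module.End.one_apply]
    exact DFunLike.congr_fun (DFunLike.congr_fun (DFunLike.congr_fun hτ a) b) c
  exact hf (Submodule.mem_top (x := f))

/-- The elementary abelian form, given the linear statement over the field. -/
theorem biadd_eq_zero_of {A B M : Type*} [AddCommGroup A] [Finite A] [AddCommGroup B] [Finite B]
    [AddCommGroup M] [Finite M] (hA : ∀ x : A, x + x = 0) (hB : ∀ x : B, x + x = 0) (hM : ∀ x : M, x + x = 0)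
    (actA : Cfsg.Sz F m →* AddMonoid.End A) (actB : Cfsg.Sz F m →* AddMonoid.End B)
    (actM : Cfsg.Sz F m →* AddMonoid.End M)
    (fA : ∀ g, g ^ 5 = 1 → g ≠ 1 → ∀ a, actA g a = a → a = 0)
    (fB : ∀ g, g ^ 5 = 1 → g ≠ 1 → ∀ a, actB g a = a → a = 0)
    (fM : ∀ g, g ^ 5 = 1 → g ≠ 1 → ∀ a, actM g a = a → a = 0)
    (lin : ∀ [Algebra (ZMod 2) F] [Module (ZMod 2) A] [Module (ZMod 2) B] [Module (ZMod 2) M]
      (ρ1 : Representation F (Cfsg.Sz F m) (F ⊗[ZMod 2] A))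
      (ρ2 : Representation F (Cfsg.Sz F m) (F ⊗[ZMod 2] B))
      (ρ3 : Representation F (Cfsg.Sz F m) (F ⊗[ZMod 2] M)), Fpf5 ρ1 → Fpf5 ρ2 → Fpf5 ρ3 →
      ∀ β : (F ⊗[ZMod 2] A) →ₗ[F] (F ⊗[ZMod 2] B) →ₗ[F] (F ⊗[ZMod 2] M),
        (∀ g a b, β (ρ1 g a) (ρ2 g b) = ρ3 g (β a b)) → β = 0)
    (β : A →+ B →+ M) (hβ : ∀ g a b, β (actA g a) (actB g b) = actM g (β a b)) : β = 0 := by
  letI : Algebra (ZMod 2) F := ZMod.algebra F 2
  letI : Module (ZMod 2) A := AddCommGroup.zmodModule (fun x => by rw [two_nsmul]; exact hA x)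
  letI : Module (ZMod 2) B := AddCommGroup.zmodModule (fun x => by rw [two_nsmul]; exact hB x)
  letI : Module (ZMod 2) M := AddCommGroup.zmodModule (fun x => by rw [two_nsmul]; exact hM x)
  let β0 : A →ₗ[ZMod 2] B →ₗ[ZMod 2] M :=
    ({ toFun := fun a => (β a).toZModLinearMap 2
       map_zero' := by ext; simp
       map_add' := fun a a' => by ext; simp } : A →+ B →ₗ[ZMod 2] M).toZModLinearMap 2
  let β' : (F ⊗[ZMod 2] A) →ₗ[F] (F ⊗[ZMod 2] B) →ₗ[F] (F ⊗[ZMod 2] M) :=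
    LinearMap.liftBaseChange F ((LinearMap.baseChangeHom (ZMod 2) F B M).comp β0)
  have htm : ∀ (x : F) (a : A) (y : F) (b : B),
      β' (x ⊗ₜ a) (y ⊗ₜ b) = (x * y) ⊗ₜ β a b := fun x a y b => by
    simp [β', β0, TensorProduct.smul_tmul']
  have hequiv : ∀ g a b, β' (baseRep actA g a) (baseRep actB g b) = baseRep actM g (β' a b) := by
    intro g a b
    induction a using TensorProduct.induction_on with
    | zero => simp
    | add a a' ha ha' => simp only [map_add, LinearMap.add_apply, ha, ha']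
    | tmul x a =>
      induction b using TensorProduct.induction_on with
      | zero => simp
      | add b b' hb hb' => simp only [map_add, hb, hb']
      | tmul y b =>
        rw [baseRep_tmul, baseRep_tmul, htm, htm, baseRep_tmul]
        exact congrArg _ (hβ g a b)
  have h0 := lin (baseRep actA) (baseRep actB) (baseRep actM) (baseRep_fpf5 actA fA)
    (baseRep_fpf5 actB fB) (baseRep_fpf5 actM fM) β' hequiv
  ext a b
  have := htm 1 a 1 b
  rw [h0, LinearMap.zero_apply, LinearMap.zero_apply, one_mul] at this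
  exact one_tmul_injective F (show (1 : F) ⊗ₜ[ZMod 2] β a b = (1 : F) ⊗ₜ[ZMod 2] (0 : M) by
    rw [← this, tmul_zero])

variable (h : SzHyp F m)
include h

/-- An invariant bilinear map between such modules vanishes. -/
theorem bilinear_eq_zero {E1 E2 E3 : Type*} [AddCommGroup E1] [Module F E1] [FiniteDimensional F E1]
    [AddCommGroup E2] [Module F E2] [FiniteDimensional F E2]
    [AddCommGroup E3] [Module F E3] [FiniteDimensional F E3]
    (ρ1 : Representation F (Cfsg.Sz F m) E1) (ρ2 : Representation F (Cfsg.Sz F m) E2)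
    (ρ3 : Representation F (Cfsg.Sz F m) E3) (f1 : Fpf5 ρ1) (f2 : Fpf5 ρ2) (f3 : Fpf5 ρ3)
    (β : E1 →ₗ[F] E2 →ₗ[F] E3) (hβ : ∀ g a b, β (ρ1 g a) (ρ2 g b) = ρ3 g (β a b)) : β = 0 :=
  bilinear_eq_zero_of_span ρ1 ρ2 ρ3 (natSpan_eq_top h ρ1 f1) (natSpan_eq_top h ρ2 f2)
    (natSpan_eq_top h ρ3.dual (dual_fpf5 h ρ3 f3)) (trilinear_eq_zero h) β hβ

/-- An invariant biadditive map between such elementary abelian groups vanishes. -/
theorem biadd_eq_zero {A B M : Type*} [AddCommGroup A] [Finite A] [AddCommGroup B] [Finite B]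
    [AddCommGroup M] [Finite M] (hA : ∀ x : A, x + x = 0) (hB : ∀ x : B, x + x = 0) (hM : ∀ x : M, x + x = 0)
    (actA : Cfsg.Sz F m →* AddMonoid.End A) (actB : Cfsg.Sz F m →* AddMonoid.End B)
    (actM : Cfsg.Sz F m →* AddMonoid.End M)
    (fA : ∀ g, g ^ 5 = 1 → g ≠ 1 → ∀ a, actA g a = a → a = 0)
    (fB : ∀ g, g ^ 5 = 1 → g ≠ 1 → ∀ a, actB g a = a → a = 0)
    (fM : ∀ g, g ^ 5 = 1 → g ≠ 1 → ∀ a, actM g a = a → a = 0)
    (β : A →+ B →+ M) (hβ : ∀ g a b, β (actA g a) (actB g b) = actM g (β a b)) : β = 0 :=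
  biadd_eq_zero_of hA hB hM actA actB actM fA fB fM
    (fun ρ1 ρ2 ρ3 f1 f2 f3 β hβ => bilinear_eq_zero h ρ1 ρ2 ρ3 f1 f2 f3 β hβ) β hβ

end CfsgLib.SzFpf
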