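import Mathlib
import Cfsg.Agent.Lib.SzFpf.Basic

/-!
The natural module of a Suzuki group has no lift to a homocyclic group of exponent four.
If `N` were one, with halving map `p`, then `Φ b q` (the first coordinate of half of
`z_b q - q`) gives, at a lift of the last basis vector, a symmetric biadditive `B` with
`B b b = b`; weights and an element of order four make its `√`-component vanish.
-/

set_option autoImplicit false
set_option linter.unusedSectionVars false

namespace CfsgLib.SzFpf

open CfsgLib.Suzuki Matrix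

variable {F : Type*} [Field F] [Fintype F] [DecidableEq F] [CharP F 2] {m : ℕ}

/-- The square root. -/
noncomputable def sqrtHom : F →+* F := ((frobeniusEquiv F 2).symm : F ≃+* F).toRingHom

theorem sqrtHom_mul_self (x : F) : sqrtHom x * sqrtHom x = x := by
  rw [← sq]; exact frobeniusEquiv_symm_pow_p (R := F) (p := 2) x

theorem sum_units_eq_zero (χ : Fˣ →* F) (hχ : ∃ v, χ v ≠ 1) : ∑ v, χ v = 0 :=
  sum_hom_units_eq_zero χ fun e => by
    obtain ⟨v, hv⟩ := hχ
    exact hv (by rw [e, MonoidHom.one_apply])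

/-- A symmetric function on pairs has, in characteristic two, the sum of its diagonal as sum. -/
theorem sum_symm {ι : Type*} [Fintype ι] (f : ι → ι → F) (hf : ∀ a b, f a b = f b a) :
    ∑ a, ∑ b, f a b = ∑ a, f a a := by
  classical
  rw [← Fintype.sum_prod_type' f,
    ← Finset.sum_filter_add_sum_filter_not Finset.univ (fun x : ι × ι => x.1 = x.2)]
  have hoff : ∑ x ∈ Finset.univ.filter (fun x : ι × ι => ¬ x.1 = x.2), f x.1 x.2 = 0 := by
    refine Finset.sum_involution (fun x _ => x.swap) (fun x _ => ?_) (fun x hx _ => ?_)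
      (fun x hx => ?_) (fun x _ => Prod.swap_swap x)
    · simp only [Prod.fst_swap, Prod.snd_swap, hf x.2 x.1, CharTwo.add_self_eq_zero]
    · intro e
      exact (Finset.mem_filter.1 hx).2 (congrArg Prod.snd e)
    · simp only [Finset.mem_filter, Finset.mem_univ, true_and] at hx ⊢
      exact fun e => hx e.symm
  rw [hoff, add_zero]
  refine Finset.sum_nbij' (fun x => x.1) (fun a => (a, a)) ?_ ?_ ?_ ?_ ?_ <;> simp +contextual

variable (h : SzHyp F m)
include h

theorem no_lift {N : Type*} [AddCommGroup N] [Finite N]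
    (act : Cfsg.Sz F m →* AddMonoid.End N) (p : N →+ (Fin 4 → F)) (hp : Function.Surjective p)
    (heq : ∀ g x, p (act g x) = nat m (RingHom.id F) g (p x))
    (h2 : ∀ x, p x = 0 ↔ x + x = 0) (h3 : ∀ x, p x = 0 → ∃ y, x = y + y) : False := by
  classical
  -- halving
  choose half hhalf using h3
  let hv : N → (Fin 4 → F) := fun x => if hx : p x = 0 then p (half x hx) else 0
  have pdbl : ∀ y, p (y + y) = 0 := fun y => by
    rw [map_add]; funext i; exact CharTwo.add_self_eq_zero (p y i)
  have hv_dbl : ∀ y, hv (y + y) = p y := fun y => by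
    simp only [hv, dif_pos (pdbl y)]
    have e := hhalf (y + y) (pdbl y)
    rw [← sub_eq_zero, ← map_sub, h2]
    rw [sub_add_sub_comm, ← e, sub_self]
  have hv_add : ∀ x y, p x = 0 → p y = 0 → hv (x + y) = hv x + hv y := by
    intro x y hx hy
    rw [hhalf x hx, hhalf y hy, add_add_add_comm, hv_dbl, hv_dbl, hv_dbl, map_add]
  have hv_zero : hv 0 = 0 := by simpa using hv_dbl 0
  -- the displacements
  let D : F → N → N := fun b x => act (zS h b) x - x
  have D_add : ∀ b x y, D b (x + y) = D b x + D b y := fun b x y => by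
    simp only [D, map_add]; abel
  have act_comp : ∀ g g' x, act (g * g') x = act g (act g' x) := fun g g' x => by
    rw [map_mul]; rfl
  have D_comp : ∀ b c x, D (b + c) x = D b x + D c x + D b (D c x) := fun b c x => by
    simp only [D, ← zS_mul h b c, act_comp, map_sub]; abel
  have D_sq : ∀ b x, D b (D b x) = -D b x + -D b x := fun b x => by
    have e : act (zS h b) (act (zS h b) x) = x := by
      rw [← act_comp, zS_mul_self, map_one]; rfl
    simp only [D, map_sub, e]; abel
  have pD : ∀ b x, p (D b x) = ![b * p x 2 + theta h b * p x 3, b * p x 3, 0, 0] := fun b x => by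
    simp only [D, map_sub, heq, nat_zS, RingHom.id_apply]
    funext i; fin_cases i <;> simp [add_assoc]
  -- `InC x` says that `p x` is fixed by the translations
  let InC : N → Prop := fun x => p x 2 = 0 ∧ p x 3 = 0
  have pD_C : ∀ b x, InC x → p (D b x) = 0 := fun b x hx => by
    rw [pD, hx.1, hx.2]; funext i; fin_cases i <;> simp
  have D_C : ∀ b x, InC (D b x) := fun b x => by simp [InC, pD]
  -- half of a displacement of `InC` is again fixed
  have psi_C : ∀ c x, InC x → hv (D c x) 2 = 0 ∧ hv (D c x) 3 = 0 := by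
    intro c x hx
    by_cases hc : c = 0
    · have : D c x = 0 := by simp [D, hc, zS_zero]
      rw [this, hv_zero]; simp
    obtain ⟨y, hy⟩ := hp ![0, 0, (p x 0 - theta h c * (p x 1 / c)) / c, p x 1 / c]
    have e : p (x - D c y) = 0 := by
      rw [map_sub, pD, hy]
      funext i; fin_cases i
      · simp; field_simp; ring
      · simp; field_simp; ring
      · simpa using hx.1
      · simpa using hx.2
    obtain ⟨w, hw⟩ : ∃ w, x - D c y = w + w := ⟨_, hhalf _ e⟩
    have ex : x = D c y + (w + w) := by rw [← hw]; abel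
    rw [ex, D_add, D_sq, D_add, hv_add _ _ (pdbl _) (pdbl _), hv_dbl, hv_dbl]
    simp [pD]
  let Φ : F → N → F := fun b x => hv (D b x) 1
  have Phi_add : ∀ b x y, InC x → InC y → Φ b (x + y) = Φ b x + Φ b y := fun b x y hx hy => by
    simp only [Φ, D_add, hv_add _ _ (pD_C b x hx) (pD_C b y hy), Pi.add_apply]
  have Phi_dbl : ∀ b w, Φ b (w + w) = b * p w 3 := fun b w => by
    simp [Φ, D_add, hv_dbl, pD]
  -- half of a double displacement
  have DD : ∀ b c x, InC x → ∃ w, D b (D c x) = w + w ∧ p w = 0 := by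
    intro b c x hx
    have hψ := psi_C c x hx
    obtain ⟨u, hu⟩ : ∃ u, D c x = u + u := ⟨_, hhalf _ (pD_C c x hx)⟩
    rw [hu, hv_dbl] at hψ
    exact ⟨D b u, by rw [hu, D_add], pD_C b u hψ⟩
  have Phi_bvar : ∀ b c x, InC x → Φ (b + c) x = Φ b x + Φ c x := by
    intro b c x hx
    obtain ⟨w, hw, hpw⟩ := DD b c x hx
    simp only [Φ]
    rw [D_comp, hv_add _ _ (by rw [map_add, pD_C b x hx, pD_C c x hx, add_zero])
      (by rw [hw]; exact pdbl w), hv_add _ _ (pD_C b x hx) (pD_C c x hx), hw, hv_dbl, hpw]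
    simp
  -- the component of weight square root
  let r : F →+* F := sqrtHom
  let Ψ : N → F := fun x => ∑ b : Fˣ, (r (b : F))⁻¹ * Φ b x
  have hr : ∀ x : F, r x * r x = x := sqrtHom_mul_self
  have hr0 : ∀ b : Fˣ, r (b : F) ≠ 0 := fun b => (map_ne_zero r).2 b.ne_zero
  have Psi_add : ∀ x y, InC x → InC y → Ψ (x + y) = Ψ x + Ψ y := fun x y hx hy => by
    simp only [Ψ, Phi_add _ x y hx hy, mul_add, Finset.sum_add_distrib]
  have sum_sqrt : ∑ b : Fˣ, r (b : F) = 0 := by
    refine sum_units_eq_zero (r.toMonoidHom.comp (Units.coeHom F)) ?_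
    obtain ⟨x, hx0, hx1⟩ := h.exists_ne_zero_one
    exact ⟨Units.mk0 x hx0, fun e => hx1 (r.injective (by rw [map_one]; exact e))⟩
  have Psi_dbl : ∀ w, Ψ (w + w) = 0 := fun w => by
    have e : ∀ b : Fˣ, (r (b : F))⁻¹ * Φ b (w + w) = r (b : F) * p w 3 := fun b => by
      rw [Phi_dbl, ← mul_assoc]
      congr 1
      rw [inv_mul_eq_iff_eq_mul₀ (hr0 b), hr]
    simp only [Ψ, e, ← Finset.sum_mul, sum_sqrt, zero_mul]
  have Psi_of : ∀ x y, InC x → p y = p x → Ψ y = Ψ x := by
    intro x y hx hy
    have e : p (y - x) = 0 := by rw [map_sub, hy, sub_self]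
    obtain ⟨w, hw⟩ : ∃ w, y - x = w + w := ⟨_, hhalf _ e⟩
    rw [show y = x + (w + w) by rw [← hw]; abel, Psi_add _ _ hx (by simp [InC, pdbl]),
      Psi_dbl, add_zero]
  -- the fourth root of unity in the Sylow subgroup kills the first coordinate
  let X : Cfsg.Sz F m := tS h 1 0
  have hX : ∀ u : Fin 4 → F, u 2 = 0 → u 3 = 0 →
      nat m (RingHom.id F) X u = ![u 0 + u 1, u 1, 0, 0] := by
    intro u hu2 hu3
    have hm : mat X = !![1, 1, 0 + sig m 1 * 1, ovf m 1 0; 0, 1, sig m 1, 0; 0, 0, 1, 1; 0, 0, 0, 1] :=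
      rfl
    rw [nat_apply, hm]
    funext i; fin_cases i <;> simp [Matrix.mulVec, dotProduct, Fin.sum_univ_four, hu2, hu3]
  have act_X : ∀ b x, act X (D b x) = D b (act X x) := fun b x => by
    simp only [D, map_sub, ← act_comp]
    rw [show X * zS h b = zS h b * X by
      simp only [X, zS, tS_mul]; congr 1 <;> simp [sig_zero, add_comm]]
  have Psi_X : ∀ x, InC x → Ψ (act X x) = Ψ x := by
    intro x hx
    refine Finset.sum_congr rfl fun b _ => ?_
    obtain ⟨w, hw⟩ : ∃ w, D (b : F) x = w + w := ⟨_, hhalf _ (pD_C b x hx)⟩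
    have hC := psi_C b x hx
    rw [hw, hv_dbl] at hC
    simp only [Φ, ← act_X, hw, map_add, hv_dbl, heq, hX _ hC.1 hC.2]
    simp
  have Psi_fst : ∀ x q, p q = ![x, 0, 0, 0] → Ψ q = 0 := by
    intro x q hq
    obtain ⟨y, hy⟩ := hp ![0, x, 0, 0]
    have hyC : InC y := by simp [InC, hy]
    have hqC : InC q := by simp [InC, hq]
    have e : p (act X y) = p (y + q) := by
      rw [heq, hX _ hyC.1 hyC.2, map_add, hy, hq]
      funext i; fin_cases i <;> simp
    have h1 := Psi_of (y + q) (act X y) (by simp [InC, hy, hq]) e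
    rw [Psi_X y hyC, Psi_add y q hyC hqC] at h1
    exact left_eq_add.1 h1
  choose lift hlift using fun x : F => hp ![0, x, 0, 0]
  have lift_C : ∀ x, InC (lift x) := fun x => by simp [InC, hlift]
  let g : F →+ F := AddMonoidHom.mk' (fun x => Ψ (lift x)) fun x y => by
    rw [← Psi_add _ _ (lift_C x) (lift_C y), ← Psi_of (lift x + lift y) (lift (x + y))]
    · simp [InC, hlift]
    · rw [map_add, hlift, hlift, hlift]; funext i; fin_cases i <;> simp
  have act_tor : ∀ (v : Fˣ) (b : F) x,
      act (tor h v) (D b x) = D (theta h (v : F) * b) (act (tor h v) x) := fun v b x => by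
    simp only [D, map_sub, ← act_comp, ← tor_conj_zS h v b, mul_assoc, inv_mul_cancel, mul_one]
  have g_tor : ∀ (v : Fˣ) (x : F), g (theta h (v : F) / v * x)
      = (theta h (v : F) / v / r (theta h (v : F))) * g x := by
    intro v x
    show Ψ (lift _) = _ * Ψ (lift x)
    rw [Psi_of (act (tor h v) (lift x)) (lift _)
      (by simp [InC, heq, nat_tor, hlift])
      (by rw [heq, hlift, hlift, nat_tor]; funext i; fin_cases i <;> simp [wt])]
    simp only [Ψ, Finset.mul_sum]
    refine (Fintype.sum_equiv (Equiv.mulLeft (Units.map (theta h).toMonoidHom v)) _ _ fun b => ?_).symm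
    obtain ⟨w, hw⟩ : ∃ w, D (b : F) (lift x) = w + w := ⟨_, hhalf _ (pD_C b _ (lift_C x))⟩
    simp only [Equiv.coe_mulLeft, Units.val_mul, Units.coe_map, RingHom.toMonoidHom_eq_coe,
      MonoidHom.coe_coe, Φ, ← act_tor, hw, map_add, hv_dbl, heq, nat_tor, RingHom.id_apply,
      map_mul, mul_inv]
    simp [wt]
    ring
  -- the symmetric form at a lift of the last basis vector
  obtain ⟨z, hz⟩ := hp ![0, 0, 0, 1]
  have pz : ∀ b, p (D b z) = ![theta h b, b, 0, 0] := fun b => by
    rw [pD, hz]; funext i; fin_cases i <;> simp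
  let B : F → F → F := fun b c => Φ b (D c z)
  have B_diag : ∀ b, B b b = b := fun b => by
    simp only [B, Φ, D_sq, hv_dbl, map_neg, pz]
    simp [CharTwo.neg_eq]
  have B_symm : ∀ b c, B b c = B c b := by
    intro b c
    have hC2 : InC (D b z + D c z) := by simp [InC, pz]
    obtain ⟨w, hw⟩ : ∃ w, D b (D c z) = w + w := ⟨_, hhalf _ (pD_C b _ (D_C c z))⟩
    have hwC : InC w := by
      have := psi_C b (D c z) (D_C c z)
      rw [hw, hv_dbl] at this; exact this
    have hlast : ∀ a, Φ a (D b (D c z)) = 0 := fun a => by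
      rw [hw, Phi_dbl, hwC.2]; simp
    have key : B (b + c) (b + c) = B b b + B b c + (B c b + B c c) := by
      simp only [B]
      rw [D_comp, Phi_bvar _ _ _ (by simp [InC, pz, hw, pdbl]), Phi_add _ _ _ hC2 (D_C b _),
        Phi_add _ _ _ (D_C b z) (D_C c z), Phi_add _ _ _ hC2 (D_C b _),
        Phi_add _ _ _ (D_C b z) (D_C c z), hlast, hlast, add_zero, add_zero]
    simp only [B_diag] at key
    have : B b c + B c b = 0 := by linear_combination -key
    exact CharTwo.add_eq_zero.1 this
  have Psi_z : ∀ c, Ψ (D c z) = g c := by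
    intro c
    obtain ⟨q, hq⟩ := hp ![theta h c, 0, 0, 0]
    have hqC : InC q := by simp [InC, hq]
    rw [Psi_of (q + lift c) (D c z) (by simp [InC, hq, hlift])
      (by rw [pz, map_add, hq, hlift]; funext i; fin_cases i <;> simp),
      Psi_add q _ hqC (lift_C c), Psi_fst _ q hq, zero_add]
    rfl
  have hsum : ∑ c : Fˣ, (r (c : F))⁻¹ * g c = 1 := by
    have e : ∀ c : Fˣ, (r (c : F))⁻¹ * g c
        = ∑ b : Fˣ, (r (b : F))⁻¹ * (r (c : F))⁻¹ * B b c := fun c => by
      simp only [← Psi_z, Ψ, B, Finset.mul_sum]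
      exact Finset.sum_congr rfl fun b _ => by ring
    simp only [e]
    rw [Finset.sum_comm, sum_symm (fun b c : Fˣ => (r (b : F))⁻¹ * (r (c : F))⁻¹ * B b c)
      (fun a b => by rw [B_symm a b]; ring)]
    have h1 : ∀ b : Fˣ, (r (b : F))⁻¹ * (r (b : F))⁻¹ * B b b = 1 := fun b => by
      rw [B_diag, ← mul_inv, hr, inv_mul_cancel₀ b.ne_zero]
    simp only [h1, Finset.sum_const, Finset.card_univ, nsmul_eq_mul, mul_one, card_units_cast h]
  -- the weight of `g`
  let T : Fˣ → Fˣ := fun v => Units.map (theta h).toMonoidHom v / v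
  have hT : ∀ v : Fˣ, ((T v : Fˣ) : F) = theta h (v : F) / v := fun v => by simp [T]
  have T_inj : Function.Injective T := by
    intro a b e
    have e1 : Units.map (theta h).toMonoidHom (a / b) = a / b := by
      rw [map_div, div_eq_div_iff_div_eq_div.1 e]
    rcases h.sig_fixed (x := ((a / b : Fˣ) : F)) (congrArg Units.val e1) with h1 | h1
    · exact absurd h1 (Units.ne_zero _)
    · exact div_eq_one.1 (Units.ext h1)
  choose T' hT' using Finite.injective_iff_surjective.1 T_inj
  have g_semi : ∀ u : Fˣ, ∀ x, g ((u : F) * x) = ((u : F) / r (theta h (T' u : F))) * g x := by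
    intro u x
    conv_lhs => rw [← hT' u, hT, g_tor]
    rw [← hT, hT' u]
  by_cases hg : g 1 = 0
  · refine one_ne_zero (hsum.symm.trans (Finset.sum_eq_zero fun c _ => ?_))
    have := g_semi c 1
    rw [mul_one, hg, mul_zero] at this
    rw [this, mul_zero]
  let χ : F → F := fun y =>
    if hy : y = 0 then 0 else y / r (theta h (T' (Units.mk0 y hy) : F))
  obtain ⟨τ, hgτ, hτ⟩ := exists_endo g hg χ (fun u x => by
    simp only [χ, Units.ne_zero, dite_false, Units.mk0_val]
    exact g_semi u x)
  have hτr : ∀ x : F, τ x = r x := by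
    by_contra hc
    push Not at hc
    obtain ⟨x, hx⟩ := hc
    have hx0 : x ≠ 0 := fun e => hx (by rw [e, map_zero, map_zero])
    have h0 : ∑ c : Fˣ, (r (c : F))⁻¹ * τ (c : F) = 0 :=
      sum_units_eq_zero ⟨⟨fun c => (r (c : F))⁻¹ * τ (c : F), by simp⟩,
        fun a b => by simp; ring⟩ ⟨Units.mk0 x hx0, fun e => hx (by
          change (r x)⁻¹ * τ x = 1 at e
          exact ((inv_mul_eq_one₀ ((map_ne_zero r).2 hx0)).1 e).symm)⟩
    refine one_ne_zero (hsum.symm.trans ?_)
    rw [Finset.sum_congr rfl fun c _ => by rw [hgτ, ← mul_assoc, mul_comm _ (g 1), mul_assoc],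
      ← Finset.mul_sum, h0, mul_zero]
  refine sq_ne_id h fun x => ?_
  by_cases hx : x = 0
  · simp [hx]
  let v : Fˣ := Units.mk0 x hx
  have e1 := hτ (T v)
  have e2 : T' (T v) = v := T_inj (hT' _)
  simp only [χ, Units.ne_zero, dite_false, Units.mk0_val, e2, hτr] at e1
  rw [hT, map_div₀] at e1
  change theta h x / x / r (theta h x) = r (theta h x) / r x at e1
  have ht : r (theta h x) ≠ 0 := (map_ne_zero r).2 ((map_ne_zero (theta h)).2 hx)
  have hrx : r x ≠ 0 := (map_ne_zero r).2 hx
  field_simp at e1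
  have e3 : theta h x * r x = theta h x * x := by
    have ht2 := hr (theta h x)
    linear_combination e1 + x * ht2
  have e4 : r x = x := mul_left_cancel₀ ((map_ne_zero (theta h)).2 hx) e3
  calc x * x = r x * r x := by rw [e4]
    _ = x := hr x

end CfsgLib.SzFpf
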