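import Mathlib
import Cfsg.Agent.Lib.SzFpf.Basic

/-!
An irreducible module of a Suzuki group in which the elements of order five act without fixed vectors is a
twisted natural module.
-/

set_option autoImplicit false
set_option linter.unusedSectionVars false

namespace CfsgLib.SzFpf

open CfsgLib.Suzuki Matrix

variable {F : Type*} [Field F] [Fintype F] [DecidableEq F] [CharP F 2] {m : ℕ}

theorem nat_e0 (σ : F →+* F) (g : Cfsg.Sz F m) (i : Fin 4) :
    nat m σ g ![1, 0, 0, 0] i = σ (mat g i 0) := by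
  rw [nat_apply]
  simp [Matrix.mulVec, dotProduct, Fin.sum_univ_four]

theorem nat_mul_apply (σ : F →+* F) (g g' : Cfsg.Sz F m) (u : Fin 4 → F) :
    nat m σ (g * g') u = nat m σ g (nat m σ g' u) := by
  rw [map_mul, Module.End.mul_apply]

theorem rep_mul_apply {E : Type*} [AddCommGroup E] [Module F E] (ρ : Representation F (Cfsg.Sz F m) E)
    (g g' : Cfsg.Sz F m) (e : E) : ρ (g * g') e = ρ g (ρ g' e) := by
  rw [map_mul, Module.End.mul_apply]

variable (h : SzHyp F m)
include h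

theorem nat_tS_zero (σ : F →+* F) (a b : F) (u : Fin 4 → F) :
    nat m σ (tS h a b) u 0 =
      u 0 + σ a * u 1 + σ (b + sig m a * a) * u 2 + σ (ovf m a b) * u 3 := by
  rw [nat_apply]
  simp [Matrix.mulVec, dotProduct, Fin.sum_univ_four, mat, tS, tMat]

theorem nat_tS_three (σ : F →+* F) (a b : F) (u : Fin 4 → F) : nat m σ (tS h a b) u 3 = u 3 := by
  rw [nat_apply]
  simp [Matrix.mulVec, dotProduct, Fin.sum_univ_four, mat, tS, tMat]

theorem nat_tS_e0 (σ : F →+* F) (a b c : F) :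
    nat m σ (tS h a b) ![c, 0, 0, 0] = ![c, 0, 0, 0] := by
  rw [nat_apply]
  ext i
  fin_cases i <;> simp [Matrix.mulVec, dotProduct, Fin.sum_univ_four, mat, tS, tMat]

theorem dS_eq_tor (k : Fˣ) : dS h k = tor h (unitsEquiv h k) := by
  simp [tor, dHom]

theorem nat_dS_e0 (σ : F →+* F) (k : Fˣ) :
    nat m σ (dS h k) ![1, 0, 0, 0] = ![σ ((unitsEquiv h k : Fˣ) : F), 0, 0, 0] := by
  rw [dS_eq_tor, nat_tor]
  ext i
  fin_cases i <;> simp [wt]

theorem mat_borel_zero {g : Cfsg.Sz F m} (hg : g ∈ borel F m) : mat g 3 0 = 0 := by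
  obtain ⟨a, b, k, rfl⟩ := exists_tS_dS h (MulAction.mem_stabilizer_iff.1 hg)
  have h1 := nat_e0 (RingHom.id F) (tS h a b * dS h k) 3
  rw [nat_mul_apply, nat_dS_e0, nat_tS_e0] at h1
  simpa using h1.symm

/-- The powers of `w z₁` on the first basis vector. -/
theorem nat_wz (σ : F →+* F) :
    let X := wS h * zS h 1
    nat m σ X ![1, 0, 0, 0] = ![0, 0, 0, 1] ∧ nat m σ X ![0, 0, 0, 1] = ![1, 0, 1, 1] ∧
      nat m σ X ![1, 0, 1, 1] = ![1, 1, 1, 1] ∧ nat m σ X ![1, 1, 1, 1] = ![1, 1, 0, 1] ∧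
      nat m σ X ![1, 1, 0, 1] = ![1, 0, 0, 0] := by
  simp only [nat_mul_apply, nat_wS, nat_zS]
  refine ⟨?_, ?_, ?_, ?_, ?_⟩ <;> ext i <;> fin_cases i <;>
    simp [CharTwo.add_self_eq_zero]

/-- The element `w z₁` has order dividing five. -/
theorem wz_pow_five_eq_one : (wS h * zS h 1) ^ 5 = 1 := by
  apply Subtype.ext
  apply Matrix.SpecialLinearGroup.ext
  have hX : mat (wS h * zS h 1) = !![0, 0, 0, 1; 0, 0, 1, 0; 0, 1, 0, 1; 1, 0, 1, 1] := by
    show mat (wS h) * mat (zS h 1) = _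
    rw [mat_wS, mat_zS, map_one]
    ext i j
    fin_cases i <;> fin_cases j <;> simp [Matrix.mul_apply, Fin.sum_univ_four]
  intro i j
  show mat ((wS h * zS h 1) ^ 5) i j = _
  rw [show mat ((wS h * zS h 1) ^ 5) = mat (wS h * zS h 1) ^ 5 by simp [mat], hX]
  fin_cases i <;> fin_cases j <;>
    simp [pow_succ, Matrix.mul_apply, Fin.sum_univ_four, CharTwo.add_self_eq_zero]

/-- A nonzero weight vector fixed by the translations. -/
theorem exists_weight {E : Type*} [AddCommGroup E] [Module F E] [FiniteDimensional F E] [Nontrivial E]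
    (ρ : Representation F (Cfsg.Sz F m) E) :
    ∃ (e : E) (J : ℕ), e ≠ 0 ∧ 0 < J ∧ (∀ a b, ρ (tS h a b) e = e) ∧
      ∀ v : Fˣ, ρ (tor h v) e = ((v : F) ^ J) • e := by
  classical
  have : Finite E := Module.finite_of_finite F
  let _ : MulAction ↥(tGroup h) E :=
    { smul := fun t e => ρ (t : Cfsg.Sz F m) e
      one_smul := fun e => show ρ (1 : Cfsg.Sz F m) e = e by simp
      mul_smul := fun s t e => rep_mul_apply ρ s t e }
  obtain ⟨e1, he1, hne⟩ : ∃ e1 : E, e1 ∈ MulAction.fixedPoints ↥(tGroup h) E ∧ e1 ≠ 0 := by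
    have h2 : 2 ∣ Nat.card E := by
      have := Fintype.ofFinite E
      rw [Nat.card_eq_fintype_card, Module.card_eq_pow_finrank (K := F)]
      refine dvd_pow ?_ Module.finrank_pos.ne'
      rw [h.card]
      exact dvd_pow_self 2 (by omega)
    have h0 : (0 : E) ∈ MulAction.fixedPoints ↥(tGroup h) E := fun t => map_zero (ρ (t : Cfsg.Sz F m))
    obtain ⟨b, hb, hb0⟩ :=
      (isPGroup_tGroup h).exists_fixed_point_of_prime_dvd_card_of_fixed_point (α := E) h2 h0
    exact ⟨b, hb, hb0.symm⟩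
  have hfix : ∀ a b, ρ (tS h a b) e1 = e1 := fun a b => he1 ⟨_, tS_mem_tGroup h a b⟩
  have hfix' : ∀ (u : Fˣ) a b, ρ (tS h a b) (ρ (tor h u) e1) = ρ (tor h u) e1 := by
    intro u a b
    obtain ⟨k, hk⟩ : ∃ k, tor h u = dS h k := ⟨(unitsEquiv h).symm u, rfl⟩
    have hc := dS_conj h k⁻¹ a b
    rw [mul_inv_eq_iff_eq_mul] at hc
    have hcomm : tS h a b * dS h k =
        dS h k * tS h (((k⁻¹ : Fˣ) : F) * a) (((k⁻¹ : Fˣ) : F) * sig m ((k⁻¹ : Fˣ) : F) * b) := by
      rw [← dS_inv] at hc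
      calc tS h a b * dS h k = dS h k * ((dS h k)⁻¹ * tS h a b) * dS h k := by group
        _ = _ := by rw [hc]; group
    rw [hk, ← rep_mul_apply, hcomm, rep_mul_apply, hfix]
  let χ : ℕ → (Fˣ →* F) := fun j => (Units.coeHom F).comp (powMonoidHom j)
  have hχ : ∀ j (v : Fˣ), χ j v = (v : F) ^ j := fun j v => by simp [χ]
  set n := Fintype.card Fˣ with hn
  have hsum : ∑ j ∈ Finset.range n, wproj h ρ (χ (j + 1)) e1 = e1 := by
    simp only [wproj, LinearMap.sum_apply, LinearMap.smul_apply, hχ]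
    rw [Finset.sum_comm]
    simp only [← Finset.sum_smul]
    rw [Finset.sum_eq_single (1 : Fˣ)]
    · simp [n, ← Nat.cast_smul_eq_nsmul F, card_units_cast h]
    · intro u _ hu
      have hx : ((u⁻¹ : Fˣ) : F) ≠ 1 := fun e => hu (by
        rw [Units.val_eq_one, inv_eq_one] at e
        exact e)
      have hp : ((u⁻¹ : Fˣ) : F) ^ n = 1 := by
        rw [← Units.val_pow_eq_pow_val, pow_card_eq_one, Units.val_one]
      have hg : (∑ j ∈ Finset.range n, ((u⁻¹ : Fˣ) : F) ^ j) = 0 := by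
        rw [geom_sum_eq hx, hp, sub_self, zero_div]
      have : (∑ j ∈ Finset.range n, ((u⁻¹ : Fˣ) : F) ^ (j + 1)) = 0 := by
        simp only [pow_succ, ← Finset.sum_mul, hg, zero_mul]
      rw [this, zero_smul]
    · simp
  obtain ⟨j, -, hj⟩ : ∃ j ∈ Finset.range n, wproj h ρ (χ (j + 1)) e1 ≠ 0 :=
    Finset.exists_ne_zero_of_sum_ne_zero (by rw [hsum]; exact hne)
  refine ⟨wproj h ρ (χ (j + 1)) e1, j + 1, hj, j.succ_pos, fun a b => ?_, fun v => ?_⟩
  · simp only [wproj, LinearMap.sum_apply, LinearMap.smul_apply, map_sum, map_smul, hfix']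
  · rw [wproj_weight, hχ]

/-- An irreducible module without fixed vectors of elements of order five is a twisted natural one. -/
theorem exists_natMap {E : Type*} [AddCommGroup E] [Module F E] [FiniteDimensional F E] [Nontrivial E]
    (ρ : Representation F (Cfsg.Sz F m) E) (hfpf : Fpf5 ρ)
    (hirr : ∀ W : Submodule F E, (∀ g, ∀ e ∈ W, ρ g e ∈ W) → W = ⊥ ∨ W = ⊤) :
    ∃ (σ : F →+* F) (φ : (Fin 4 → F) →ₗ[F] E), IsNatMap ρ σ φ ∧ Function.Bijective φ := by
  classical
  obtain ⟨e0, J, he0, hJ, heT, heW⟩ := exists_weight h ρ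
  obtain ⟨lam, K, hl0, -, hlT, hlW⟩ := exists_weight h (ρ.dual)
  have hlfix : ∀ a b e, lam (ρ (tS h a b) e) = lam e := by
    intro a b e
    have h1 := DFunLike.congr_fun (hlT a (b + sig m a * a)) e
    rw [← tS_inv] at h1
    simpa [Representation.dual_apply, Module.Dual.transpose_apply] using h1
  let f : Cfsg.Sz F m → F := fun g => lam (ρ g e0)
  have hborelmove : ∀ c d (k : Fˣ),
      ρ (tS h c d * dS h k) e0 = (((unitsEquiv h k : Fˣ) : F) ^ J) • e0 := by
    intro c d k
    rw [rep_mul_apply, dS_eq_tor, heW, map_smul, heT]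
  have hout : ∀ g : Cfsg.Sz F m, g ∉ borel F m →
      f g = (mat g 3 0) ^ J * f (wS h) := by
    intro g hg
    have hmem := smul_ovoid g.2 (pInf_mem (F := F) (m := m))
    rcases mem_ovoid.1 hmem with hp | ⟨a, b, hp⟩
    · exact absurd (MulAction.mem_stabilizer_iff.2 hp) hg
    have hp' : g • (pInf : Projectivization F (Fin 4 → F)) = pAff m a b := hp
    obtain ⟨c, d, k, hk⟩ := exists_tS_dS h (g := (tS h a b * wS h)⁻¹ * g) (by
      rw [mul_smul, hp', inv_smul_eq_iff, mul_smul, wS_smul_pInf, tS_smul_p0])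
    obtain rfl := eq_mul_of_inv_mul_eq hk
    have hL := nat_e0 (RingHom.id F) (tS h a b * wS h * (tS h c d * dS h k)) 3
    rw [nat_mul_apply, nat_mul_apply _ (tS h c d), nat_dS_e0, nat_tS_e0, nat_mul_apply,
      nat_tS_three, nat_wS] at hL
    simp only [RingHom.id_apply] at hL
    simp only [f]
    rw [rep_mul_apply, hborelmove, map_smul, map_smul, rep_mul_apply, hlfix, smul_eq_mul, ← hL]
    simp
  set X := wS h * zS h 1 with hXdef
  obtain ⟨x1, x2, x3, x4, x5⟩ := nat_wz h (RingHom.id F)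
  rw [← hXdef] at x1 x2 x3 x4 x5
  obtain ⟨v1, v2, v3, v4⟩ : nat m (RingHom.id F) X ![1, 0, 0, 0] = ![0, 0, 0, 1] ∧
      nat m (RingHom.id F) (X ^ 2) ![1, 0, 0, 0] = ![1, 0, 1, 1] ∧
      nat m (RingHom.id F) (X ^ 3) ![1, 0, 0, 0] = ![1, 1, 1, 1] ∧
      nat m (RingHom.id F) (X ^ 4) ![1, 0, 0, 0] = ![1, 1, 0, 1] := by
    refine ⟨x1, ?_, ?_, ?_⟩ <;>
      simp only [pow_succ', pow_zero, mul_one, nat_mul_apply, x1, x2, x3, x4]
  have hX5 : X ^ 5 = 1 := wz_pow_five_eq_one h
  have hXne : X ≠ 1 := fun e => by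
    have := congrFun v1 0
    rw [e, map_one, Module.End.one_apply] at this
    simp at this
  have hfive : ∀ e, e + ρ X e + ρ (X ^ 2) e + ρ (X ^ 3) e + ρ (X ^ 4) e = 0 := by
    intro e
    refine hfpf X hX5 hXne _ ?_
    simp only [map_add, ← rep_mul_apply, ← pow_succ', ← pow_two]
    rw [show X ^ (4 + 1) = 1 from hX5, map_one, Module.End.one_apply]
    abel
  have hLX : mat X 3 0 = 1 ∧ mat (X ^ 2) 3 0 = 1 ∧ mat (X ^ 3) 3 0 = 1 ∧ mat (X ^ 4) 3 0 = 1 := by
    refine ⟨?_, ?_, ?_, ?_⟩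
    · have := nat_e0 (RingHom.id F) X 3
      rw [v1] at this; simpa using this.symm
    · have := nat_e0 (RingHom.id F) (X ^ 2) 3
      rw [v2] at this; simpa using this.symm
    · have := nat_e0 (RingHom.id F) (X ^ 3) 3
      rw [v3] at this; simpa using this.symm
    · have := nat_e0 (RingHom.id F) (X ^ 4) 3
      rw [v4] at this; simpa using this.symm
  have hfX : ∀ g : Cfsg.Sz F m, mat g 3 0 = 1 → f g = f (wS h) := by
    intro g hg
    rw [hout g (fun hb => one_ne_zero (hg.symm.trans (mat_borel_zero h hb))), hg, one_pow, one_mul]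
  have hl1 : lam e0 = 0 := by
    have := congrArg lam (hfive e0)
    simp only [map_add, map_zero] at this
    have e1 := hfX _ hLX.1
    have e2 := hfX _ hLX.2.1
    have e3 := hfX _ hLX.2.2.1
    have e4 := hfX _ hLX.2.2.2
    simp only [f] at e1 e2 e3 e4
    rw [e1, e2, e3, e4] at this
    linear_combination this - 2 * (CharTwo.two_eq_zero (R := F)) * lam (ρ (wS h) e0)
  have hall : ∀ g : Cfsg.Sz F m, f g = (mat g 3 0) ^ J * f (wS h) := by
    intro g
    by_cases hg : g ∈ borel F m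
    · obtain ⟨c, d, k, rfl⟩ := exists_tS_dS h (MulAction.mem_stabilizer_iff.1 hg)
      rw [mat_borel_zero h hg, zero_pow hJ.ne', zero_mul]
      simp only [f]
      rw [hborelmove, map_smul, hl1, smul_zero]
    · exact hout g hg
  have hgen : ∀ W : Submodule F E, (∀ g, ∀ e ∈ W, ρ g e ∈ W) → e0 ∈ W → W = ⊤ := fun W hW hmem =>
    (hirr W hW).resolve_left fun hb => he0 (by rwa [hb, Submodule.mem_bot] at hmem)
  have hfw : f (wS h) ≠ 0 := by
    intro hz
    apply hl0
    have htop := hgen (Submodule.span F (Set.range fun g => ρ g e0)) (fun g e he => by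
      induction he using Submodule.span_induction with
      | mem x hx =>
        obtain ⟨g', rfl⟩ := hx
        exact Submodule.subset_span ⟨g * g', rep_mul_apply ρ g g' e0⟩
      | zero => simp
      | add x y _ _ hx hy => rw [map_add]; exact add_mem hx hy
      | smul c x _ hx => rw [map_smul]; exact Submodule.smul_mem _ c hx)
      (Submodule.subset_span ⟨1, by simp⟩)
    refine LinearMap.ext_on_range htop fun g => ?_
    have := hall g
    rw [hz, mul_zero] at this
    simpa [f] using this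
  have hP : ∀ y : F, (1 + y) ^ J = 1 + y ^ J := by
    intro y
    obtain ⟨b, rfl⟩ := (Finite.injective_iff_surjective.1 (theta h).injective) y
    have := congrArg (fun e => lam (ρ (wS h * zS h b) e)) (hfive e0)
    simp only [map_add, map_zero, ← rep_mul_apply] at this
    change f _ + f _ + f _ + f _ + f _ = (0 : F) at this
    have hL : ∀ g, mat (wS h * zS h b * g) 3 0 =
        nat m (RingHom.id F) g ![1, 0, 0, 0] 0 + b * nat m (RingHom.id F) g ![1, 0, 0, 0] 2 +
          theta h b * nat m (RingHom.id F) g ![1, 0, 0, 0] 3 := by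
      intro g
      have := nat_e0 (RingHom.id F) (wS h * zS h b * g) 3
      rw [nat_mul_apply, nat_mul_apply, nat_wS, nat_zS] at this
      simpa using this.symm
    have h0 : mat (wS h * zS h b) 3 0 = 1 := by
      simpa [nat_e0, mat] using hL 1
    rw [hall, hall (wS h * zS h b * X), hall (wS h * zS h b * X ^ 2), hall (wS h * zS h b * X ^ 3),
      hall (wS h * zS h b * X ^ 4), h0, hL, hL, hL, hL, v1, v2, v3, v4] at this
    simp at this
    have h2 : (1 + theta h b) ^ J + (theta h b) ^ J + 1 = 0 := by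
      apply mul_right_cancel₀ hfw
      linear_combination this - (1 + b + theta h b) ^ J * f (wS h) * (CharTwo.two_eq_zero (R := F))
    exact CharTwo.add_eq_zero.1 (by linear_combination h2)
  let σ : F →+* F :=
    { toFun := fun x => x ^ J
      map_one' := one_pow J
      map_mul' := fun x y => mul_pow x y J
      map_zero' := zero_pow hJ.ne'
      map_add' := fun x y => by
        rcases eq_or_ne x 0 with rfl | hx
        · simp [zero_pow hJ.ne']
        · rw [show x + y = x * (1 + y / x) by field_simp, mul_pow, hP, mul_add, mul_one, ← mul_pow,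
            mul_div_cancel₀ _ hx] }
  let Φ : E →ₗ[F] (Cfsg.Sz F m → F) := LinearMap.pi fun g => lam.comp (ρ g)
  let Ψ : (Fin 4 → F) →ₗ[F] (Cfsg.Sz F m → F) :=
    LinearMap.pi fun g => f (wS h) • (LinearMap.proj 3).comp (nat m σ g)
  have hΦ : ∀ e g, Φ e g = lam (ρ g e) := fun e g => rfl
  have hΨ : ∀ u g, Ψ u g = f (wS h) * nat m σ g u 3 := fun u g => rfl
  have hΦρ : ∀ g e, Φ (ρ g e) = fun g' => Φ e (g' * g) := fun g e =>
    funext fun g' => by rw [hΦ, hΦ, rep_mul_apply]
  have hΨn : ∀ g u, Ψ (nat m σ g u) = fun g' => Ψ u (g' * g) := fun g u =>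
    funext fun g' => by rw [hΨ, hΨ, nat_mul_apply]
  have hbase : Ψ ![1, 0, 0, 0] = Φ e0 := funext fun g => by
    rw [hΨ, hΦ, nat_e0]
    exact (mul_comm _ _).trans (hall g).symm
  have hΦi : Function.Injective Φ := by
    refine LinearMap.ker_eq_bot.1 ((hirr _ fun g e he => ?_).resolve_right fun htop => hfw ?_)
    · rw [LinearMap.mem_ker] at he ⊢
      rw [hΦρ, he]; rfl
    · have : e0 ∈ LinearMap.ker Φ := by rw [htop]; exact Submodule.mem_top
      exact congrFun (LinearMap.mem_ker.1 this) (wS h)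
  have hΨi : Function.Injective Ψ := by
    refine LinearMap.ker_eq_bot.1 (LinearMap.ker_eq_bot'.2 fun u hu => ?_)
    have h3 : ∀ g, nat m σ g u 3 = 0 := fun g => by
      have := congrFun hu g
      rw [hΨ] at this
      exact (mul_eq_zero.1 this).resolve_left hfw
    have u3 : u 3 = 0 := by simpa using h3 1
    have u0 : u 0 = 0 := by simpa [nat_wS h] using h3 (wS h)
    have u2 : u 2 = 0 := by
      simpa [nat_mul_apply, nat_wS h, nat_zS h, u0, u3] using h3 (wS h * zS h 1)
    have u1 : u 1 = 0 := by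
      simpa [nat_mul_apply, nat_wS h, nat_tS_zero h, u0, u2, u3] using h3 (wS h * tS h 1 0)
    ext i
    fin_cases i <;> assumption
  have hle : ∀ u, Ψ u ∈ LinearMap.range Φ := by
    set S := (LinearMap.range Φ).comap Ψ
    have hinv : ∀ g, ∀ u ∈ S, nat m σ g u ∈ S := by
      intro g u hu
      obtain ⟨e, he⟩ := Submodule.mem_comap.1 hu
      exact Submodule.mem_comap.2 ⟨ρ g e, by rw [hΦρ, he, hΨn]⟩
    have s0 : ![1, 0, 0, 0] ∈ S := ⟨e0, hbase.symm⟩
    have s3 := hinv (wS h) _ s0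
    have s13 := hinv (zS h 1) _ s3
    simp [nat_wS h, nat_zS h] at s3 s13
    have s1 : ![0, 1, 0, 0] ∈ S := by
      have := sub_mem (sub_mem s13 s0) s3
      convert this using 1
      ext i
      fin_cases i <;> simp
    have s2 := hinv (wS h) _ s1
    simp [nat_wS h] at s2
    intro u
    have : u ∈ S := by
      have hu : u = u 0 • ![1, 0, 0, 0] + u 1 • ![0, 1, 0, 0] + u 2 • ![0, 0, 1, 0] +
          u 3 • ![0, 0, 0, 1] := by
        ext i; fin_cases i <;> simp
      rw [hu]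
      exact add_mem (add_mem (add_mem (S.smul_mem _ s0) (S.smul_mem _ s1)) (S.smul_mem _ s2))
        (S.smul_mem _ s3)
    exact this
  let φ : (Fin 4 → F) →ₗ[F] E :=
    (LinearEquiv.ofInjective Φ hΦi).symm.toLinearMap.comp (Ψ.codRestrict (LinearMap.range Φ) hle)
  have hφ : ∀ u, Φ (φ u) = Ψ u := fun u => by
    simp [φ, LinearEquiv.ofInjective_symm_apply]
  have hnat : IsNatMap ρ σ φ := fun g u => hΦi (by rw [hφ, hΦρ, hφ, hΨn])
  refine ⟨σ, φ, hnat, fun u u' e => hΨi (by rw [← hφ, ← hφ, e]), ?_⟩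
  rw [← LinearMap.range_eq_top]
  refine hgen _ ?_ ⟨![1, 0, 0, 0], hΦi (by rw [hφ, hbase])⟩
  rintro g _ ⟨u, rfl⟩
  exact ⟨nat m σ g u, hnat g u⟩

end CfsgLib.SzFpf
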