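import Mathlib
import Cfsg.Agent.Lib.SzFpf.Bilinear
import Cfsg.Agent.Lib.SzFpf.Exponent
import Cfsg.Agent.Lib.SzFpf.Descend
import Cfsg.Agent.Lib.SzFpf.Semisimple

/-!
A normal 2-subgroup with a Suzuki quotient, on which the elements of odd order act without fixed
points, is elementary abelian.
-/

set_option autoImplicit false
set_option linter.unusedSectionVars false

namespace CfsgLib.SzFpf

open CfsgLib.Suzuki Matrix
open scoped TensorProduct

universe u

section Act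

variable {H : Type*} [Group H] {Q : Type*} [Group Q] (π : H →* Q) (hπ : Function.Surjective π)
  (K : Subgroup H) [K.Normal] (hK : ∀ n ∈ π.ker, ∀ k ∈ K, n * k = k * n)

include hK in
theorem conj_eq {g g' : H} (e : π g = π g') (k : H) (hk : k ∈ K) :
    g * k * g⁻¹ = g' * k * g'⁻¹ := by
  have h1 : g'⁻¹ * g ∈ π.ker := by rw [MonoidHom.mem_ker, map_mul, map_inv, e, inv_mul_cancel]
  have h2 := hK _ h1 k hk
  calc g * k * g⁻¹ = g' * (g'⁻¹ * g * k) * g⁻¹ := by group
    _ = g' * (k * (g'⁻¹ * g)) * g⁻¹ := by rw [h2]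
    _ = g' * k * g'⁻¹ := by group

/-- The action of a quotient by conjugation. -/
noncomputable def conjAct : Q →* AddMonoid.End (Additive K) where
  toFun q := MonoidHom.toAdditive (MulAut.conjNormal (Function.surjInv hπ q)).toMonoidHom
  map_one' := by
    refine AddMonoidHom.ext fun a => Additive.toMul.injective (Subtype.ext ?_)
    show Function.surjInv hπ 1 * (a.toMul : H) * (Function.surjInv hπ 1)⁻¹ = (a.toMul : H)
    rw [conj_eq π K hK (g' := 1) (by rw [Function.surjInv_eq hπ, map_one]) _ a.toMul.2]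
    group
  map_mul' q q' := by
    refine AddMonoidHom.ext fun a => Additive.toMul.injective (Subtype.ext ?_)
    show Function.surjInv hπ (q * q') * (a.toMul : H) * (Function.surjInv hπ (q * q'))⁻¹ =
      Function.surjInv hπ q * (Function.surjInv hπ q' * (a.toMul : H) *
        (Function.surjInv hπ q')⁻¹) * (Function.surjInv hπ q)⁻¹
    rw [conj_eq π K hK (g' := Function.surjInv hπ q * Function.surjInv hπ q')
      (by rw [Function.surjInv_eq hπ, map_mul, Function.surjInv_eq hπ, Function.surjInv_eq hπ])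
      _ a.toMul.2]
    group

theorem conjAct_apply (g : H) (a : Additive K) :
    ((conjAct π hπ K hK (π g) a).toMul : H) = g * (a.toMul : H) * g⁻¹ :=
  conj_eq π K hK (g := Function.surjInv hπ (π g)) (g' := g) (Function.surjInv_eq hπ _) _ a.toMul.2

theorem conjAct_fpf5 (hN : IsPGroup 2 π.ker)
    (hfpf : ∀ g : H, Odd (orderOf g) → g ≠ 1 → ∀ k ∈ K, g * k = k * g → k = 1)
    (q : Q) (hq : q ^ 5 = 1) (hq1 : q ≠ 1) (a : Additive K) (ha : conjAct π hπ K hK q a = a) :
    a = 0 := by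
  obtain ⟨x, rfl⟩ := hπ q
  obtain ⟨k, hk⟩ := hN ⟨x ^ 5, by rw [MonoidHom.mem_ker, map_pow, hq]⟩
  have hk' : x ^ (5 * 2 ^ k) = 1 := by rw [pow_mul]; exact congrArg Subtype.val hk
  have hx : π (x ^ (16 ^ k)) = π x := by
    rw [map_pow, ← pow_mod_orderOf]
    have h5 : orderOf (π x) = 5 := by
      have := Fact.mk (by norm_num : Nat.Prime 5)
      exact orderOf_eq_prime hq hq1
    rw [h5, Nat.pow_mod]
    norm_num
  have h5 : (x ^ (16 ^ k)) ^ 5 = 1 := by
    rw [← pow_mul, show 16 ^ k * 5 = 5 * 2 ^ k * 8 ^ k by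
      rw [mul_assoc, ← mul_pow]; norm_num [mul_comm], pow_mul, hk', one_pow]
  have h1 := conjAct_apply π hπ K hK (x ^ (16 ^ k)) a
  rw [hx, ha, eq_mul_inv_iff_mul_eq] at h1
  have hne : x ^ (16 ^ k) ≠ 1 := fun e => hq1 (by rw [← hx, e, map_one])
  have hodd : Odd (orderOf (x ^ (16 ^ k))) :=
    Odd.of_dvd_nat (by decide : Odd 5) (orderOf_dvd_of_pow_eq_one h5)
  exact Additive.toMul.injective (Subtype.ext (hfpf _ hodd hne _ a.toMul.2 h1.symm))

end Act

theorem elementary_aux {F : Type} [Field F] [Fintype F] {m : ℕ} (h : SzHyp F m) (n : ℕ) :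
    ∀ {G : Type u} [Group G] [Finite G], Nat.card G ≤ n → ∀ (N : Subgroup G) [N.Normal],
    IsPGroup 2 N → ∀ (π : G →* Cfsg.Sz F m), Function.Surjective π → π.ker = N →
    (∀ g : G, Odd (orderOf g) → g ≠ 1 → ∀ a ∈ N, g * a = a * g → a = 1) →
    (∀ a ∈ N, ∀ b ∈ N, a * b = b * a) ∧ ∀ x ∈ N, x * x = 1 := by
  induction n with
  | zero => intro G _ _ hc; exact absurd hc (Nat.not_le.2 Nat.card_pos)
  | succ n ih =>
  intro G _ _ hc N hNn hN π hπ hker hfpf
  classical
  haveI := h.charTwo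
  by_cases hb : N = ⊥
  · subst hb
    exact ⟨fun a ha b hb => by simp [Subgroup.mem_bot.1 ha, Subgroup.mem_bot.1 hb],
      fun x hx => by simp [Subgroup.mem_bot.1 hx]⟩
  -- a minimal normal subgroup inside
  obtain ⟨M, ⟨hMn, hMN, hMne⟩, hMmin⟩ : ∃ M, (fun M : Subgroup G => M.Normal ∧ M ≤ N ∧ M ≠ ⊥) M ∧
      ∀ L : Subgroup G, L.Normal ∧ L ≤ N ∧ L ≠ ⊥ → L ≤ M → M ≤ L := by
    obtain ⟨M, -, hM, hmin⟩ := exists_minimal_le_of_wellFoundedLT
      (fun M : Subgroup G => M.Normal ∧ M ≤ N ∧ M ≠ ⊥) N ⟨hNn, le_rfl, hb⟩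
    exact ⟨M, hM, fun L hL hle => hmin hL hle⟩
  haveI := hMn
  -- central and of exponent two
  have hMz : ∀ a ∈ M, (∀ b ∈ N, a * b = b * a) ∧ a * a = 1 := by
    let K : Subgroup G :=
      { carrier := {a | a ∈ M ∧ (∀ b ∈ N, a * b = b * a) ∧ a * a = 1}
        one_mem' := ⟨one_mem M, fun b _ => by simp, one_mul 1⟩
        mul_mem' := by
          rintro a c ⟨ha, ha1, ha2⟩ ⟨hc, hc1, hc2⟩
          refine ⟨mul_mem ha hc, fun b hb => by rw [mul_assoc, hc1 b hb, ← mul_assoc, ha1 b hb,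
            mul_assoc], ?_⟩
          rw [mul_assoc, ← mul_assoc c, hc1 a (hMN ha), mul_assoc a c, hc2, mul_one, ha2]
        inv_mem' := by
          rintro a ⟨ha, ha1, ha2⟩
          rw [inv_eq_of_mul_eq_one_right ha2]
          exact ⟨ha, ha1, ha2⟩ }
    have hKn : K.Normal := ⟨fun a ⟨ha, ha1, ha2⟩ g => ⟨hMn.conj_mem a ha g, fun b hb => by
        have := ha1 (g⁻¹ * b * g) (by simpa using hNn.conj_mem b hb g⁻¹)
        calc g * a * g⁻¹ * b = g * (a * (g⁻¹ * b * g)) * g⁻¹ := by group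
          _ = b * (g * a * g⁻¹) := by rw [this]; group, by
        calc g * a * g⁻¹ * (g * a * g⁻¹) = g * (a * a) * g⁻¹ := by group
          _ = 1 := by rw [ha2]; group⟩⟩
    have hKne : K ≠ ⊥ := by
      haveI := Fact.mk Nat.prime_two
      have hMp : IsPGroup 2 M := hN.to_le hMN
      haveI : Nontrivial M := (Subgroup.nontrivial_iff_ne_bot M).2 hMne
      obtain ⟨j, hj, hcard⟩ := hMp.nontrivial_iff_card.1 inferInstance
      have hdvd : 2 ∣ Nat.card M := hcard ▸ dvd_pow_self 2 (by omega)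
      let _ : MulAction N M :=
        { smul := fun g a => ⟨g.1 * a.1 * g.1⁻¹, hMn.conj_mem a.1 a.2 g.1⟩
          one_smul := fun a => Subtype.ext (show (1 : G) * a.1 * (1 : G)⁻¹ = a.1 by group)
          mul_smul := fun g g' a => Subtype.ext
            (show g.1 * g'.1 * a.1 * (g.1 * g'.1)⁻¹ = g.1 * (g'.1 * a.1 * g'.1⁻¹) * g.1⁻¹ by group) }
      obtain ⟨a, ha, ha1⟩ := hN.exists_fixed_point_of_prime_dvd_card_of_fixed_point M hdvd
        (a := (1 : M)) (MulAction.mem_fixedPoints.2 fun g => Subtype.ext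
          (show g.1 * (1 : G) * g.1⁻¹ = 1 by group))
      have hcen : ∀ b ∈ N, (a : G) * b = b * a := fun b hb => by
        have e : b * (a : G) * b⁻¹ = a :=
          congrArg Subtype.val (MulAction.mem_fixedPoints.1 ha ⟨b, hb⟩)
        nth_rw 1 [← e]; group
      have hd : 2 ∣ orderOf a := by
        obtain ⟨k, hk⟩ := IsPGroup.iff_orderOf.1 hMp a
        rw [hk]
        refine dvd_pow_self 2 fun hk0 => ha1 ?_
        rw [hk0, pow_zero, orderOf_eq_one_iff] at hk
        exact hk.symm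
      obtain ⟨d, hdd⟩ := hd
      intro e
      have hda : (a ^ d) * a ^ d = 1 := by
        rw [← pow_add, ← two_mul, ← hdd, pow_orderOf_eq_one]
      have hmem : ((a ^ d : M) : G) ∈ K := ⟨(a ^ d : M).2, fun b hb => by
        rw [SubgroupClass.coe_pow]
        exact (Commute.pow_left (hcen b hb) d).eq, congrArg Subtype.val hda⟩
      rw [e, Subgroup.mem_bot] at hmem
      have hd0 : 0 < d := by have := orderOf_pos a; omega
      have := Nat.le_of_dvd hd0 (orderOf_dvd_of_pow_eq_one (Subtype.ext hmem : a ^ d = 1))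
      omega
    intro a ha
    exact (hMmin K ⟨hKn, fun x hx => hMN hx.1, hKne⟩ (fun x hx => hx.1) ha).2
  -- induction on the quotient
  let q := QuotientGroup.mk' M
  have hq : Function.Surjective q := QuotientGroup.mk'_surjective M
  let π' : G ⧸ M →* Cfsg.Sz F m := QuotientGroup.lift M π (hker ▸ hMN)
  have hπ' : Function.Surjective π' := fun y => by
    obtain ⟨x, rfl⟩ := hπ y
    exact ⟨q x, rfl⟩
  let A : Subgroup (G ⧸ M) := N.map q
  haveI hAn : A.Normal := hNn.map q hq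
  have hker' : π'.ker = A := by
    ext y
    obtain ⟨x, rfl⟩ := hq y
    constructor
    · intro hx
      exact ⟨x, hker ▸ hx, rfl⟩
    · rintro ⟨z, hz, e⟩
      rw [MonoidHom.mem_ker, ← e]
      exact (hker.symm ▸ hz : z ∈ π.ker)
  have hfpf' : ∀ g : G ⧸ M, Odd (orderOf g) → g ≠ 1 → ∀ a ∈ A, g * a = a * g → a = 1 := by
    rintro g hg hg1 _ ⟨b, hb, rfl⟩ hcomm
    obtain ⟨x, rfl⟩ := hq g
    set r := orderOf (q x) with hr
    obtain ⟨s, hs⟩ : Even (r + 1) := hg.add_one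
    have hxr : x ^ r ∈ M := by
      rw [← QuotientGroup.ker_mk' M, MonoidHom.mem_ker, map_pow]
      exact pow_orderOf_eq_one _
    have hy : (x ^ (r + 1)) ^ r = 1 := by
      rw [← pow_mul, show (r + 1) * r = r * 2 * s by rw [hs]; ring, pow_mul, pow_mul, sq,
        (hMz _ hxr).2, one_pow]
    have hqy : q (x ^ (r + 1)) = q x := by rw [map_pow, pow_succ, pow_orderOf_eq_one, one_mul]
    set y := x ^ (r + 1)
    have hyo : Odd (orderOf y) := Odd.of_dvd_nat hg (orderOf_dvd_of_pow_eq_one hy)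
    have hy1 : y ≠ 1 := fun e => hg1 (by rw [← hqy, e, map_one])
    let f : M → M := fun a => ⟨y * a.1 * y⁻¹ * a.1⁻¹, mul_mem (hMn.conj_mem _ a.2 y) (inv_mem a.2)⟩
    have hf : Function.Injective f := by
      intro a c e
      have e' : y * a.1 * y⁻¹ * a.1⁻¹ = y * c.1 * y⁻¹ * c.1⁻¹ := congrArg Subtype.val e
      have hcz := (hMz a.1 a.2).1
      have : c.1⁻¹ * a.1 = 1 := by
        refine hfpf y hyo hy1 _ (hMN (mul_mem (inv_mem c.2) a.2)) ?_
        have e1 : y * a.1 * y⁻¹ = y * c.1 * y⁻¹ * c.1⁻¹ * a.1 := by rw [← e']; group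
        have e2 := (hMz _ (hMn.conj_mem c.1 c.2 y)).1 (c.1⁻¹ * a.1) (hMN (mul_mem (inv_mem c.2) a.2))
        calc y * (c.1⁻¹ * a.1) = (y * c.1 * y⁻¹)⁻¹ * (y * a.1 * y⁻¹) * y := by group
          _ = c.1⁻¹ * a.1 * y := by rw [e1]; group
      exact Subtype.ext (inv_mul_eq_one.1 this).symm
    have hcm : y * b * y⁻¹ * b⁻¹ ∈ M := by
      rw [← QuotientGroup.ker_mk' M, MonoidHom.mem_ker]
      show q (y * b * y⁻¹ * b⁻¹) = 1
      rw [map_mul, map_mul, map_mul, map_inv, map_inv, hqy, hcomm]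
      group
    obtain ⟨a, ha⟩ := (Finite.injective_iff_surjective.1 hf) ⟨_, inv_mem hcm⟩
    have ha' : y * a.1 * y⁻¹ * a.1⁻¹ = (y * b * y⁻¹ * b⁻¹)⁻¹ := congrArg Subtype.val ha
    have hab : b * a.1 = 1 := by
      refine hfpf y hyo hy1 _ (mul_mem hb (hMN a.2)) ?_
      have h1 := (hMz _ (hMn.conj_mem a.1 a.2 y)).1 b hb
      have h2 : y * a.1 * y⁻¹ = (y * b * y⁻¹ * b⁻¹)⁻¹ * a.1 := by rw [← ha']; group
      have h3 : y * b * y⁻¹ = b * (y * b * y⁻¹ * b⁻¹) := by rw [← (hMz _ hcm).1 b hb]; group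
      calc y * (b * a.1) = (y * b * y⁻¹) * (y * a.1 * y⁻¹) * y := by group
        _ = b * a.1 * y := by rw [h2]; nth_rw 1 [h3]; group
    rw [← QuotientGroup.ker_mk' M] at hMN
    show q b = 1
    rw [← MonoidHom.mem_ker, QuotientGroup.ker_mk', eq_inv_of_mul_eq_one_left hab]
    exact inv_mem a.2
  have hcardM : Nat.card (G ⧸ M) ≤ n := by
    have := Subgroup.card_eq_card_quotient_mul_card_subgroup M
    have h2 : 1 < Nat.card M := M.one_lt_card_iff_ne_bot.2 hMne
    have h3 : 0 < Nat.card (G ⧸ M) := Nat.card_pos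
    nlinarith
  obtain ⟨hAc, hAs⟩ := ih hcardM A (hN.map q) π' hπ' hker' hfpf'
  have hmem : ∀ x, q x = 1 ↔ x ∈ M := fun x => by
    rw [← MonoidHom.mem_ker, QuotientGroup.ker_mk']
  letI : CommGroup A := { (inferInstance : Group A) with
    mul_comm := fun a b => Subtype.ext (hAc _ a.2 _ b.2) }
  letI : CommGroup M := { (inferInstance : Group M) with
    mul_comm := fun a b => Subtype.ext ((hMz _ a.2).1 _ (hMN b.2)) }
  have hA2 : ∀ a : Additive A, a + a = 0 := fun a =>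
    Additive.toMul.injective (Subtype.ext (hAs _ a.toMul.2))
  have hM2 : ∀ a : Additive M, a + a = 0 := fun a =>
    Additive.toMul.injective (Subtype.ext (hMz _ a.toMul.2).2)
  have hKM : ∀ n ∈ π.ker, ∀ k ∈ M, n * k = k * n := fun n hn k hk =>
    ((hMz k hk).1 n (hker ▸ hn)).symm
  have hKA : ∀ n ∈ π'.ker, ∀ k ∈ A, n * k = k * n := fun n hn k hk => hAc n (hker' ▸ hn) k hk
  let actM := conjAct π hπ M hKM
  let actA := conjAct π' hπ' A hKA
  have fM := conjAct_fpf5 π hπ M hKM (hker ▸ hN) (fun g hg hg1 k hk => hfpf g hg hg1 k (hMN hk))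
  have fA := conjAct_fpf5 π' hπ' A hKA (hker' ▸ hN.map q) hfpf'
  -- lifts
  have hlift : ∀ a : Additive A, ∃ x : N, q x = (a.toMul : G ⧸ M) := fun a => by
    obtain ⟨x, hx, e⟩ := a.toMul.2
    exact ⟨⟨x, hx⟩, e⟩
  choose l hl using hlift
  have hlq : ∀ (a : Additive A) (x : G), q x = (a.toMul : G ⧸ M) → ∃ z ∈ M, (l a : G) = x * z :=
    fun a x hx => ⟨x⁻¹ * l a, (hmem _).1 (by rw [map_mul, map_inv, hx, hl, inv_mul_cancel]),
      (mul_inv_cancel_left _ _).symm⟩
  -- commutators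
  have hcomM : ∀ x ∈ N, ∀ y ∈ N, x * y * x⁻¹ * y⁻¹ ∈ M := fun x hx y hy => (hmem _).1 (by
    rw [map_mul, map_mul, map_mul, map_inv, map_inv, hAc (q x) ⟨x, hx, rfl⟩ (q y) ⟨y, hy, rfl⟩]
    group)
  have hcomr : ∀ x ∈ N, ∀ y ∈ N, ∀ z ∈ M, (x * z) * y * (x * z)⁻¹ * y⁻¹ = x * y * x⁻¹ * y⁻¹ :=
    fun x hx y hy z hz => by
      have := (hMz z hz).1 y hy
      calc (x * z) * y * (x * z)⁻¹ * y⁻¹ = x * (z * y) * z⁻¹ * x⁻¹ * y⁻¹ := by group
        _ = x * y * x⁻¹ * y⁻¹ := by rw [this]; group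
  have hcoml : ∀ x ∈ N, ∀ y ∈ N, ∀ z ∈ M, x * (y * z) * x⁻¹ * (y * z)⁻¹ = x * y * x⁻¹ * y⁻¹ :=
    fun x hx y hy z hz => by
      have := (hMz z hz).1 x⁻¹ (inv_mem hx)
      calc x * (y * z) * x⁻¹ * (y * z)⁻¹ = x * y * (z * x⁻¹) * z⁻¹ * y⁻¹ := by group
        _ = x * y * x⁻¹ * y⁻¹ := by rw [this]; group
  let c : Additive A → Additive A → Additive M := fun a b =>
    Additive.ofMul ⟨(l a : G) * l b * (l a : G)⁻¹ * (l b : G)⁻¹, hcomM _ (l a).2 _ (l b).2⟩
  have hc : ∀ (a b : Additive A) (x y : G), x ∈ N → y ∈ N → q x = (a.toMul : G ⧸ M) →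
      q y = (b.toMul : G ⧸ M) → ((c a b).toMul : G) = x * y * x⁻¹ * y⁻¹ := by
    intro a b x y hx hy ex ey
    obtain ⟨z, hz, e⟩ := hlq a x ex
    obtain ⟨z', hz', e'⟩ := hlq b y ey
    show (l a : G) * l b * (l a : G)⁻¹ * (l b : G)⁻¹ = _
    rw [e, e', hcomr x hx _ (mul_mem hy (hMN hz')) z hz, hcoml x hx y hy z' hz']
  have hcadd1 : ∀ a a' b, c (a + a') b = c a b + c a' b := fun a a' b => by
    refine Additive.toMul.injective (Subtype.ext ?_)
    have e1 := (hMz _ (hcomM _ (l a').2 _ (l b).2)).1 (l a) (l a).2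
    have e2 := (hMz _ (hcomM _ (l a').2 _ (l b).2)).1 (l a * l b * (l a : G)⁻¹ * (l b : G)⁻¹)
      (hMN (hcomM _ (l a).2 _ (l b).2))
    rw [hc (a + a') b ((l a : G) * l a') (l b) (mul_mem (l a).2 (l a').2) (l b).2
      (by rw [map_mul, hl, hl]; rfl) (hl b)]
    show _ = ((l a : G) * l b * (l a : G)⁻¹ * (l b : G)⁻¹) *
      ((l a' : G) * l b * (l a' : G)⁻¹ * (l b : G)⁻¹)
    rw [← e2]
    calc (l a : G) * l a' * l b * ((l a : G) * l a')⁻¹ * (l b : G)⁻¹
        = (l a : G) * ((l a' : G) * l b * (l a' : G)⁻¹ * (l b : G)⁻¹) * l b * (l a : G)⁻¹ *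
            (l b : G)⁻¹ := by group
      _ = _ := by rw [← e1]; group
  have hcadd2 : ∀ a b b', c a (b + b') = c a b + c a b' := fun a b b' => by
    refine Additive.toMul.injective (Subtype.ext ?_)
    have e1 := (hMz _ (hcomM _ (l a).2 _ (l b').2)).1 (l b)⁻¹ (inv_mem (l b).2)
    rw [hc a (b + b') (l a) ((l b : G) * l b') (l a).2 (mul_mem (l b).2 (l b').2)
      (hl a) (by rw [map_mul, hl, hl]; rfl)]
    show _ = ((l a : G) * l b * (l a : G)⁻¹ * (l b : G)⁻¹) *
      ((l a : G) * l b' * (l a : G)⁻¹ * (l b' : G)⁻¹)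
    calc (l a : G) * ((l b : G) * l b') * (l a : G)⁻¹ * ((l b : G) * l b')⁻¹
        = (l a : G) * l b * (l a : G)⁻¹ * (((l a : G) * l b' * (l a : G)⁻¹ * (l b' : G)⁻¹) *
            (l b : G)⁻¹) := by group
      _ = _ := by rw [e1]; group
  let β : Additive A →+ Additive A →+ Additive M :=
    AddMonoidHom.mk' (fun a => AddMonoidHom.mk' (c a) (hcadd2 a))
      (fun a a' => AddMonoidHom.ext (hcadd1 a a'))
  have hAconj : ∀ (g : G) (a : Additive A) (x : G), q x = (a.toMul : G ⧸ M) →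
      q (g * x * g⁻¹) = ((actA (π g) a).toMul : G ⧸ M) := fun g a x hx => by
    have := conjAct_apply π' hπ' A hKA (q g) a
    rw [show π' (q g) = π g from rfl] at this
    rw [map_mul, map_mul, map_inv, hx]
    exact this.symm
  have hβ : ∀ g a b, β (actA g a) (actA g b) = actM g (β a b) := by
    intro g a b
    obtain ⟨g, rfl⟩ := hπ g
    refine Additive.toMul.injective (Subtype.ext ?_)
    rw [conjAct_apply π hπ M hKM]
    show ((c (actA (π g) a) (actA (π g) b)).toMul : G) = g * ((c a b).toMul : G) * g⁻¹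
    rw [hc _ _ (g * l a * g⁻¹) (g * l b * g⁻¹) (hNn.conj_mem _ (l a).2 g)
      (hNn.conj_mem _ (l b).2 g) (hAconj g a _ (hl a)) (hAconj g b _ (hl b)),
      hc a b (l a) (l b) (l a).2 (l b).2 (hl a) (hl b)]
    group
  have hβ0 : β = 0 := biadd_eq_zero h hA2 hA2 hM2 actA actA actM fA fA fM β hβ
  have hab : ∀ a ∈ N, ∀ b ∈ N, a * b = b * a := fun a ha b hb => by
    let a' : Additive A := Additive.ofMul ⟨q a, a, ha, rfl⟩
    let b' : Additive A := Additive.ofMul ⟨q b, b, hb, rfl⟩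
    have e : (((β a' b' : Additive M).toMul : M) : G) = 1 := by rw [hβ0]; rfl
    rw [show (((β a' b' : Additive M).toMul : M) : G) = a * b * a⁻¹ * b⁻¹ from
      hc a' b' a b ha hb rfl rfl, mul_inv_eq_one, mul_inv_eq_iff_eq_mul] at e
    exact e
  refine ⟨hab, ?_⟩
  -- squares
  let sqr : Additive A → Additive M := fun a => Additive.ofMul
    ⟨(l a : G) * l a, (hmem _).1 (by rw [map_mul, hl]; exact hAs _ a.toMul.2)⟩
  have hsq : ∀ (a : Additive A) (x : G), x ∈ N → q x = (a.toMul : G ⧸ M) →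
      ((sqr a).toMul : G) = x * x := by
    intro a x hx ex
    obtain ⟨z, hz, e⟩ := hlq a x ex
    show (l a : G) * l a = x * x
    rw [e, mul_assoc, ← mul_assoc z, (hMz z hz).1 x hx, mul_assoc x z z, (hMz z hz).2, mul_one]
  let S : Additive A →+ Additive M := AddMonoidHom.mk' sqr fun a b => by
    refine Additive.toMul.injective (Subtype.ext ?_)
    rw [hsq (a + b) ((l a : G) * l b) (mul_mem (l a).2 (l b).2) (by rw [map_mul, hl, hl]; rfl)]
    show _ = ((l a : G) * l a) * ((l b : G) * l b)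
    rw [mul_assoc, ← mul_assoc (l b : G), hab _ (l b).2 _ (l a).2]
    group
  have hS : ∀ g a, S (actA g a) = actM g (S a) := by
    intro g a
    obtain ⟨g, rfl⟩ := hπ g
    refine Additive.toMul.injective (Subtype.ext ?_)
    rw [conjAct_apply π hπ M hKM]
    show ((sqr (actA (π g) a)).toMul : G) = g * ((sqr a).toMul : G) * g⁻¹
    rw [hsq _ (g * l a * g⁻¹) (hNn.conj_mem _ (l a).2 g) (hAconj g a _ (hl a)),
      hsq a (l a) (l a).2 (hl a)]
    group
  by_contra hnot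
  obtain ⟨σ, θ₀, hθ₀, hne₀⟩ : ∃ (σ : F →+* F) (θ : (Fin 4 → F) →+ Additive A),
      (∀ g u, θ (nat m σ g u) = actA g (θ u)) ∧ S.comp θ ≠ 0 := by
    by_contra hno
    push Not at hno
    letI : Algebra (ZMod 2) F := ZMod.algebra F 2
    letI : Module (ZMod 2) (Additive A) :=
      AddCommGroup.zmodModule (fun x => by rw [two_nsmul]; exact hA2 x)
    have hcl := span_natural actA (natSpan_eq_top h _ (baseRep_fpf5 actA fA))
    refine hnot fun x hx => ?_
    let a : Additive A := Additive.ofMul ⟨q x, x, hx, rfl⟩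
    have ha : a ∈ S.ker := by
      refine (AddSubgroup.closure_le _).2 ?_ (hcl.symm ▸ AddSubgroup.mem_top a)
      rintro _ ⟨σ, θ, hθ, u, rfl⟩
      exact DFunLike.congr_fun (hno σ θ hθ) u
    have e := congrArg (fun z : Additive M => (z.toMul : G)) ha
    rw [← hsq a x hx rfl]
    exact e
  -- absorb the twist
  let θ : (Fin 4 → F) →+ Additive A :=
    θ₀.comp (AddMonoidHom.compLeft (σ : F →+ F) (Fin 4))
  have hθ : ∀ g u, θ (nat m (RingHom.id F) g u) = actA g (θ u) := by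
    intro g u
    show θ₀ (σ ∘ nat m (RingHom.id F) g u) = actA g (θ₀ (σ ∘ u))
    rw [← hθ₀]
    congr 1
    funext i
    simp [nat_apply, Matrix.mulVec, dotProduct, map_sum]
  have hne : S.comp θ ≠ 0 := by
    intro e
    refine hne₀ (AddMonoidHom.ext fun u => ?_)
    obtain ⟨v, rfl⟩ : ∃ v, σ ∘ v = u :=
      (Function.Surjective.comp_left (Finite.injective_iff_surjective.1 σ.injective)) u
    exact DFunLike.congr_fun e v
  let ξ : (Fin 4 → F) →+ Additive M := S.comp θ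
  have hξ : ∀ g u, ξ (nat m (RingHom.id F) g u) = actM g (ξ u) := fun g u => by
    show S (θ _) = _
    rw [hθ, hS]; rfl
  have hξinj : Function.Injective ξ := by
    rw [← AddMonoidHom.ker_eq_bot_iff]
    by_contra hk
    have := nat_irreducible h (RingHom.id F) ξ.ker (fun g u hu => by
      rw [AddMonoidHom.mem_ker, hξ, AddMonoidHom.mem_ker.1 hu, map_zero]) hk
    exact hne (AddMonoidHom.ext fun u => by
      have hu : u ∈ ξ.ker := this ▸ AddSubgroup.mem_top u
      exact hu)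
  have hθinj : Function.Injective θ := fun u v e => hξinj (congrArg S e)
  have hrange : ∀ x ∈ M, ∃ u, ((ξ u).toMul : G) = x := by
    let L : Subgroup G :=
      { carrier := {x | ∃ u, ((ξ u).toMul : G) = x}
        one_mem' := ⟨0, by rw [map_zero]; rfl⟩
        mul_mem' := by rintro _ _ ⟨u, rfl⟩ ⟨v, rfl⟩; exact ⟨u + v, by rw [map_add]; rfl⟩
        inv_mem' := by rintro _ ⟨u, rfl⟩; exact ⟨-u, by rw [map_neg]; rfl⟩ }
    have hLM : L ≤ M := by rintro _ ⟨u, rfl⟩; exact (ξ u).toMul.2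
    refine fun x hx => hMmin L ⟨⟨?_⟩, hLM.trans hMN, ?_⟩ hLM hx
    · rintro _ ⟨u, rfl⟩ g
      exact ⟨nat m (RingHom.id F) (π g) u, by rw [hξ, conjAct_apply π hπ M hKM]⟩
    · intro e
      refine hne (AddMonoidHom.ext fun u => Additive.toMul.injective (Subtype.ext ?_))
      have hu : ((ξ u).toMul : G) ∈ L := ⟨u, rfl⟩
      rw [e, Subgroup.mem_bot] at hu
      exact hu
  -- the preimage of the natural submodule
  let N₀ : Subgroup G :=
    { carrier := {x | x ∈ N ∧ ∃ u, ((θ u).toMul : G ⧸ M) = q x}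
      one_mem' := ⟨one_mem N, 0, by rw [map_zero, map_one]; rfl⟩
      mul_mem' := by
        rintro x y ⟨hx, u, hu⟩ ⟨hy, v, hv⟩
        exact ⟨mul_mem hx hy, u + v, by rw [map_add, map_mul, ← hu, ← hv]; rfl⟩
      inv_mem' := by
        rintro x ⟨hx, u, hu⟩
        exact ⟨inv_mem hx, -u, by rw [map_neg, map_inv, ← hu]; rfl⟩ }
  haveI : N₀.Normal := by
    refine ⟨?_⟩
    rintro x ⟨hx, u, hu⟩ g
    exact ⟨hNn.conj_mem x hx g, nat m (RingHom.id F) (π g) u, by
      rw [hθ]; exact (hAconj g (θ u) x hu.symm).symm⟩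
  letI : CommGroup N₀ := { (inferInstance : Group N₀) with
    mul_comm := fun a b => Subtype.ext (hab _ a.2.1 _ b.2.1) }
  have hK₀ : ∀ n ∈ π.ker, ∀ k ∈ N₀, n * k = k * n := fun n hn k hk =>
    hab n (hker ▸ hn) k hk.1
  choose p₀ hp₀ using fun a : Additive N₀ => a.toMul.2.2
  have hpu : ∀ (a : Additive N₀) (u : Fin 4 → F),
      ((θ u).toMul : G ⧸ M) = q (a.toMul : G) → p₀ a = u := fun a u e =>
    hθinj (Additive.toMul.injective (Subtype.ext ((hp₀ a).trans e.symm)))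
  let p : Additive N₀ →+ (Fin 4 → F) := AddMonoidHom.mk' p₀ fun a b => hpu _ _ (by
    rw [map_add]
    show ((θ (p₀ a)).toMul : G ⧸ M) * ((θ (p₀ b)).toMul : G ⧸ M) = q ((a.toMul : G) * (b.toMul : G))
    rw [hp₀, hp₀, map_mul])
  refine no_lift h (conjAct π hπ N₀ hK₀) p (fun u => ?_) (fun g a => ?_) (fun a => ?_) fun a ha => ?_
  · obtain ⟨x, hx, e⟩ := (θ u).toMul.2
    exact ⟨Additive.ofMul ⟨x, hx, u, e.symm⟩, hpu _ _ e.symm⟩
  · obtain ⟨g, rfl⟩ := hπ g
    refine hpu _ _ ?_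
    rw [hθ, conjAct_apply π hπ N₀ hK₀]
    exact (hAconj g (θ (p₀ a)) _ (hp₀ a).symm).symm
  · have hsa : ((ξ (p₀ a)).toMul : G) = (a.toMul : G) * (a.toMul : G) :=
      hsq _ _ a.toMul.2.1 (hp₀ a).symm
    constructor
    · intro e
      have e' : q (a.toMul : G) = 1 := by
        rw [← hp₀ a, show p₀ a = 0 from e, map_zero]; rfl
      exact Additive.toMul.injective (Subtype.ext ((hMz _ ((hmem _).1 e')).2))
    · intro e
      refine hξinj (Additive.toMul.injective (Subtype.ext ?_))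
      show ((ξ (p₀ a)).toMul : G) = ((ξ 0).toMul : G)
      rw [hsa, map_zero]
      exact congrArg (fun z : Additive N₀ => (z.toMul : G)) e
  · have e' : q (a.toMul : G) = 1 := by
      rw [← hp₀ a, show p₀ a = 0 from ha, map_zero]; rfl
    obtain ⟨u, hu⟩ := hrange _ ((hmem _).1 e')
    obtain ⟨x, hx, e⟩ := (θ u).toMul.2
    refine ⟨Additive.ofMul ⟨x, hx, u, e.symm⟩, Additive.toMul.injective (Subtype.ext ?_)⟩
    show (a.toMul : G) = x * x
    rw [← hu]
    exact hsq (θ u) x hx e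

/-- A normal 2-subgroup with a Suzuki quotient on which the elements of odd order act without fixed
points is elementary abelian. -/
theorem elementary {G : Type*} [Group G] [Finite G] {F : Type} [Field F] [Fintype F] {m : Nat}
    (h : CfsgLib.Suzuki.SzHyp F m) (N : Subgroup G) [N.Normal] (hN : IsPGroup 2 N)
    (π : G →* Cfsg.Sz F m) (hπ : Function.Surjective π) (hker : π.ker = N)
    (hfpf : ∀ g : G, Odd (orderOf g) → g ≠ 1 → ∀ n ∈ N, g * n = n * g → n = 1) :
    (∀ a ∈ N, ∀ b ∈ N, a * b = b * a) ∧ ∀ x ∈ N, x * x = 1 :=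
  elementary_aux h (Nat.card G) le_rfl N hN π hπ hker hfpf

end CfsgLib.SzFpf
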